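import Mathlib
import Cfsg.Prelude.Def_CaseTheorems

/-!
Finite 2-groups of sectional rank at most four acted on by a simple group with an element of order five inverted
by an involution and an element of order three.
-/

set_option autoImplicit false
set_option maxHeartbeats 400000

namespace Cfsg.Agent.SecFour

open Subgroup

variable {Y : Type*} [Group Y]

theorem rank_bound [Finite Y] (h4 : Cfsg.SectionalPRankLE 2 4 Y) (K N : Subgroup Y) (hNK : N ≤ K)
    (hn : ∀ k ∈ K, ∀ n ∈ N, k * n * k⁻¹ ∈ N) (hsq : ∀ k ∈ K, k * k ∈ N) :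
    Nat.card K ≤ 16 * Nat.card N := by
  haveI hNn : (N.subgroupOf K).Normal :=
    ⟨fun n hn' k => mem_subgroupOf.2 (by simpa using hn k k.2 n (mem_subgroupOf.1 hn'))⟩
  have h2 : ∀ q : ↥K ⧸ N.subgroupOf K, q * q = 1 := by
    intro q
    obtain ⟨k, rfl⟩ := QuotientGroup.mk_surjective q
    rw [← QuotientGroup.mk_mul, QuotientGroup.eq_one_iff]
    exact mem_subgroupOf.2 (hsq k k.2)
  have hinv : ∀ q : ↥K ⧸ N.subgroupOf K, q⁻¹ = q := fun q => inv_eq_of_mul_eq_one_right (h2 q)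
  have hcomm : IsMulCommutative ↥(⊤ : Subgroup (↥K ⧸ N.subgroupOf K)) := ⟨⟨fun a b => Subtype.ext (by
    show (a : ↥K ⧸ N.subgroupOf K) * b = b * a
    calc (a : ↥K ⧸ N.subgroupOf K) * b = ((a : ↥K ⧸ N.subgroupOf K) * b)⁻¹ := (hinv _).symm
      _ = _ := by rw [mul_inv_rev, hinv, hinv])⟩⟩
  have h := h4 K (N.subgroupOf K) ⊤ hcomm (fun a _ => by rw [pow_two]; exact h2 a)
  rw [card_top, ← index_eq_card] at h
  have h' := (N.subgroupOf K).card_mul_index
  rw [Nat.card_congr (subgroupOfEquivOfLe hNK).toEquiv] at h'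
  rw [← h', mul_comm]
  exact Nat.mul_le_mul_right _ h

/-- Fixed points of an element of prime order on an invariant set. -/
theorem fixed_modEq [Finite Y] {p : ℕ} [hp : Fact p.Prime] {h : Y} (hh : h ^ p = 1) (S : Set Y)
    (hS : ∀ x ∈ S, h * x * h⁻¹ ∈ S) :
    Nat.card {x : Y // x ∈ S ∧ h * x = x * h} ≡ Nat.card S [MOD p] := by
  classical
  have hmem : ∀ a ∈ zpowers h, ∀ x ∈ S, a * x * a⁻¹ ∈ S := by
    have : ∀ (n : ℕ) (x : Y), x ∈ S → h ^ n * x * (h ^ n)⁻¹ ∈ S := by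
      intro n
      induction n with
      | zero => simp
      | succ n ih => intro x hx; convert hS _ (ih x hx) using 1; rw [pow_succ']; group
    intro a ha x hx
    obtain ⟨n, rfl⟩ := mem_powers_iff_mem_zpowers.mpr ha
    exact this n x hx
  letI : MulAction ↥(zpowers h) ↥S :=
    { smul := fun a x => ⟨(a : Y) * x * (a : Y)⁻¹, hmem a a.2 x x.2⟩
      one_smul := fun x => Subtype.ext (show ((1 : ↥(zpowers h)) : Y) * x * _⁻¹ = x by simp)
      mul_smul := fun a b x => Subtype.ext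
        (show ((a * b : ↥(zpowers h)) : Y) * x * _⁻¹ = (a : Y) * ((b : Y) * x * (b : Y)⁻¹) * (a : Y)⁻¹ by
          simp [mul_assoc]) }
  have hpg : IsPGroup p ↥(zpowers h) := by
    rintro ⟨a, n, rfl⟩
    refine ⟨1, Subtype.ext ?_⟩
    show (h ^ n) ^ p ^ 1 = 1
    rw [pow_one, ← zpow_natCast, ← zpow_mul, mul_comm, zpow_mul, zpow_natCast, hh, one_zpow]
  refine Nat.ModEq.trans ?_ (hpg.card_modEq_card_fixedPoints ↥S).symm
  refine congrArg (· % p) (Nat.card_congr
    { toFun := fun x => ⟨⟨x.1, x.2.1⟩, fun a => Subtype.ext ?_⟩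
      invFun := fun x => ⟨x.1.1, x.1.2, ?_⟩
      left_inv := fun x => rfl
      right_inv := fun x => rfl })
  · show (a : Y) * x.1 * (a : Y)⁻¹ = x.1
    have hc : Commute h x.1 := x.2.2
    obtain ⟨n, hn⟩ := a.2
    rw [← hn]
    show h ^ n * x.1 * (h ^ n)⁻¹ = x.1
    rw [(hc.zpow_left n).eq, mul_inv_cancel_right]
  · have h1 := congrArg Subtype.val (x.2 ⟨h, mem_zpowers h⟩)
    change h * x.1.1 * h⁻¹ = x.1.1 at h1
    exact mul_inv_eq_iff_eq_mul.1 h1

theorem card_of_le_sixteen {Y : Type*} [Group Y] [Finite Y] {V C : Subgroup Y} (hCV : C ≤ V)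
    (h2 : IsPGroup 2 V) (hV : Nat.card V ≤ 16) (hne : C ≠ V) :
    (Nat.card V ≡ Nat.card C [MOD 5] → Nat.card V = 16 ∧ Nat.card C = 1) ∧
      (Nat.card V = 16 → Nat.card V ≡ Nat.card C [MOD 3] → Nat.card C ≤ 4) := by
  obtain ⟨a, ha⟩ := h2.exists_card_eq
  obtain ⟨b, hb⟩ := (h2.to_le hCV).exists_card_eq
  have hlt : Nat.card C < Nat.card V := by
    refine lt_of_le_of_ne (Nat.card_le_card_of_injective _ (inclusion_injective hCV)) fun e => hne ?_
    exact eq_of_le_of_card_ge hCV e.ge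
  rw [ha] at hlt hV ⊢
  rw [hb] at hlt ⊢
  have ha4 : a ≤ 4 := (Nat.pow_le_pow_iff_right (le_refl 2)).1 (by simpa using hV)
  have hba : b < a := (Nat.pow_lt_pow_iff_right (lt_add_one 1)).1 hlt
  interval_cases a <;> interval_cases b <;> simp_all [Nat.ModEq]

/-- `Y` is an extension of the 2-subgroup `Q` by a group in which `Q` is the largest proper normal
subgroup, with marked elements `f`, `t`, `g` as in the alternating group of degree five. -/
structure Ext (Y : Type*) [Group Y] (Q : Subgroup Y) (f t g : Y) : Prop where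
  two : IsPGroup 2 Q
  top : ∀ N : Subgroup Y, N.Normal → Q ≤ N → N = Q ∨ N = ⊤
  f5 : f ^ 5 = 1
  g3 : g ^ 3 = 1
  fQ : f ∉ Q
  gQ : g ∉ Q
  tQ : t ∉ Q
  t2 : t * t ∈ Q
  tf : t * f * t⁻¹ = f⁻¹
  rank : Cfsg.SectionalPRankLE 2 4 Y

theorem sectional_quotient {Y : Type*} [Group Y] [Finite Y] (N : Subgroup Y) [N.Normal]
    (h : Cfsg.SectionalPRankLE 2 4 Y) : Cfsg.SectionalPRankLE 2 4 (Y ⧸ N) := by
  intro H M _ E hEc hEp
  let π : ↥(H.comap (QuotientGroup.mk' N)) →* ↥H :=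
    ((QuotientGroup.mk' N).comp (H.comap (QuotientGroup.mk' N)).subtype).codRestrict H fun x => x.2
  have hπ : Function.Surjective π := by
    rintro ⟨y, hy⟩
    obtain ⟨x, rfl⟩ := QuotientGroup.mk'_surjective N y
    exact ⟨⟨x, hy⟩, rfl⟩
  let ψ := (QuotientGroup.mk' M).comp π
  have hψ : Function.Surjective ψ := (QuotientGroup.mk'_surjective M).comp hπ
  let e := (QuotientGroup.quotientKerEquivOfSurjective ψ hψ).symm
  have := h _ ψ.ker (E.map e.toMonoidHom) inferInstance (by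
    rintro _ ⟨a, ha, rfl⟩; rw [← map_pow, hEp a ha, map_one])
  rwa [card_map_of_injective (show Function.Injective e.toMonoidHom from e.injective)] at this

theorem Ext.quotient [Finite Y] {Q : Subgroup Y} {f t g : Y} (E : Ext Y Q f t g) (N : Subgroup Y) [N.Normal]
    (hN : N ≤ Q) :
    Ext (Y ⧸ N) (Q.map (QuotientGroup.mk' N)) (f : Y ⧸ N) (t : Y ⧸ N) (g : Y ⧸ N) := by
  have hmem : ∀ y : Y, (y : Y ⧸ N) ∈ Q.map (QuotientGroup.mk' N) → y ∈ Q := by
    rintro y ⟨x, hx, h⟩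
    have := QuotientGroup.eq.1 (show (x : Y ⧸ N) = y from h)
    simpa using Q.mul_mem hx (hN this)
  refine ⟨E.two.map _, fun M hM hQM => ?_, ?_, ?_, fun h => E.fQ (hmem _ h), fun h => E.gQ (hmem _ h),
    fun h => E.tQ (hmem _ h), ⟨t * t, E.t2, rfl⟩, ?_, sectional_quotient N E.rank⟩
  · rcases E.top (M.comap (QuotientGroup.mk' N)) (hM.comap _) (map_le_iff_le_comap.1 hQM) with h | h
    · left
      rw [← h, map_comap_eq_self_of_surjective (QuotientGroup.mk'_surjective N)]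
    · right
      rw [← map_comap_eq_self_of_surjective (QuotientGroup.mk'_surjective N) M, h,
        map_top_of_surjective _ (QuotientGroup.mk'_surjective N)]
  · rw [← QuotientGroup.mk_pow, E.f5]; rfl
  · rw [← QuotientGroup.mk_pow, E.g3]; rfl
  · show QuotientGroup.mk' N t * QuotientGroup.mk' N f * (QuotientGroup.mk' N t)⁻¹ = (QuotientGroup.mk' N f)⁻¹
    rw [← map_inv, ← map_inv, ← map_mul, ← map_mul, E.tf]

variable [Finite Y] {Q : Subgroup Y} [hQn : Q.Normal] {f t g : Y}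

/-- An element outside `Q` acts non-trivially on a normal subgroup centralised by `Q` but not central. -/
theorem Ext.not_centralize (E : Ext Y Q f t g) {V : Subgroup Y} [V.Normal]
    (hQc : Q ≤ centralizer (V : Set Y)) (hnc : ¬ V ≤ center Y) {y : Y} (hy : y ∉ Q) :
    ∃ v ∈ V, y * v ≠ v * y := by
  by_contra! h
  rcases E.top (centralizer (V : Set Y)) inferInstance hQc with h' | h'
  · exact hy (h' ▸ mem_centralizer_iff.2 fun v hv => (h v hv).symm)
  · refine hnc fun v hv => mem_center_iff.2 fun x => ?_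
    exact (mem_centralizer_iff.1 (h' ▸ mem_top x) v hv).symm

/-- The module lemma. -/
theorem Ext.layer (E : Ext Y Q f t g) {V : Subgroup Y} [V.Normal] (hVQ : V ≤ Q)
    (hexp : ∀ v ∈ V, v * v = 1) (hQc : Q ≤ centralizer (V : Set Y)) (hnc : ¬ V ≤ center Y) :
    Nat.card V = 16 ∧ (∀ v ∈ V, f * v = v * f → v = 1) ∧
      Nat.card ↥(V ⊓ centralizer {t}) = 4 ∧
      (∀ v ∈ V, t * v = v * t → ∃ w ∈ V, v = w⁻¹ * (t * w * t⁻¹)) ∧
      Nat.card ↥(V ⊓ centralizer {g}) ≤ 4 ∧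
      (∀ W : Subgroup Y, W ≤ V → (∀ w ∈ W, f * w * f⁻¹ ∈ W) → W = ⊥ ∨ W = V) := by
  haveI : Fact (Nat.Prime 5) := ⟨by norm_num⟩
  haveI : Fact (Nat.Prime 3) := ⟨by norm_num⟩
  have hV2 : IsPGroup 2 V := E.two.to_le hVQ
  have hV16 : Nat.card V ≤ 16 := by
    have := rank_bound E.rank V ⊥ bot_le (fun k _ n hn => by rw [mem_bot] at hn; simp [hn])
      (fun k hk => mem_bot.2 (hexp k hk))
    simpa using this
  have hne : ∀ y : Y, y ∉ Q → V ⊓ centralizer {y} ≠ V := by
    intro y hy e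
    obtain ⟨v, hv, hyv⟩ := E.not_centralize hQc hnc hy
    have hv' : v ∈ V ⊓ centralizer {y} := by rw [e]; exact hv
    exact hyv (mem_centralizer_singleton_iff.1 hv'.2).symm
  have hfix : ∀ {p : ℕ} [Fact p.Prime] (y : Y), y ^ p = 1 →
      Nat.card V ≡ Nat.card ↥(V ⊓ centralizer {y}) [MOD p] := by
    intro p _ y hy
    refine Nat.ModEq.symm (Nat.ModEq.trans ?_
      (fixed_modEq hy (V : Set Y) fun x hx => ‹V.Normal›.conj_mem x hx y))
    refine congrArg (· % p) ?_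
    exact Nat.card_congr (Equiv.subtypeEquivRight fun x => by
      simp only [mem_inf, SetLike.mem_coe, mem_centralizer_singleton_iff, eq_comm])
  obtain ⟨hV, hf1⟩ := (card_of_le_sixteen inf_le_left hV2 hV16 (hne f E.fQ)).1 (hfix f E.f5)
  have hf : ∀ v ∈ V, f * v = v * f → v = 1 := by
    intro v hv hfv
    have hb : V ⊓ centralizer {f} = ⊥ := card_eq_one.1 hf1
    exact mem_bot.1 (hb ▸ mem_inf.2 ⟨hv, mem_centralizer_singleton_iff.2 hfv.symm⟩)
  have hg : Nat.card ↥(V ⊓ centralizer {g}) ≤ 4 :=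
    (card_of_le_sixteen inf_le_left hV2 hV16 (hne g E.gQ)).2 hV (hfix g E.g3)
  have hinv : ∀ v ∈ V, v⁻¹ = v := fun v hv => inv_eq_of_mul_eq_one_right (hexp v hv)
  have hcomm : ∀ v ∈ V, ∀ w ∈ V, v * w = w * v := fun v hv w hw =>
    mem_centralizer_iff.1 (hQc (hVQ hw)) v hv
  -- the commutator map of `t`
  have htt : ∀ v ∈ V, t * (t * v * t⁻¹) * t⁻¹ = v := fun v hv => by
    have h : t * t * v = v * (t * t) := (mem_centralizer_iff.1 (hQc E.t2) v hv).symm
    calc t * (t * v * t⁻¹) * t⁻¹ = t * t * v * (t * t)⁻¹ := by group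
      _ = v := by rw [h, mul_inv_cancel_right]
  let d : ↥V →* ↥V :=
    MonoidHom.mk' (fun v => ⟨(v : Y)⁻¹ * (t * v * t⁻¹), V.mul_mem (V.inv_mem v.2) (‹V.Normal›.conj_mem _ v.2 t)⟩)
      fun a b => Subtype.ext (by
        show ((a : Y) * b)⁻¹ * (t * ((a : Y) * b) * t⁻¹) =
          (a : Y)⁻¹ * (t * a * t⁻¹) * ((b : Y)⁻¹ * (t * b * t⁻¹))
        have h := hcomm _ (V.inv_mem b.2) _ (V.mul_mem (V.inv_mem a.2) (‹V.Normal›.conj_mem _ a.2 t))
        calc ((a : Y) * b)⁻¹ * (t * ((a : Y) * b) * t⁻¹)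
            = (b : Y)⁻¹ * ((a : Y)⁻¹ * (t * a * t⁻¹)) * (t * b * t⁻¹) := by group
          _ = _ := by rw [h]; group)
  have hker : ∀ v : ↥V, v ∈ d.ker ↔ t * (v : Y) = v * t := fun v => by
    rw [MonoidHom.mem_ker, Subtype.ext_iff]
    show (v : Y)⁻¹ * (t * v * t⁻¹) = 1 ↔ _
    rw [inv_mul_eq_one, eq_mul_inv_iff_mul_eq, eq_comm]
  have hrk : d.range ≤ d.ker := by
    rintro _ ⟨v, rfl⟩
    rw [hker]
    show t * ((v : Y)⁻¹ * (t * v * t⁻¹)) = (v : Y)⁻¹ * (t * v * t⁻¹) * t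
    have h := hcomm _ (‹V.Normal›.conj_mem _ v.2 t) _ v.2
    have h1 : t * ((v : Y)⁻¹ * (t * v * t⁻¹)) * t⁻¹ = (t * v * t⁻¹)⁻¹ * v := by
      calc t * ((v : Y)⁻¹ * (t * v * t⁻¹)) * t⁻¹
          = (t * v * t⁻¹)⁻¹ * (t * (t * v * t⁻¹) * t⁻¹) := by group
        _ = _ := by rw [htt v v.2]
    rw [← mul_inv_eq_iff_eq_mul, h1, hinv _ (‹V.Normal›.conj_mem _ v.2 t), hinv v v.2, h]
  have hkc : Nat.card d.ker = Nat.card ↥(V ⊓ centralizer {t}) := by
    refine Nat.card_congr ?_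
    exact
      { toFun := fun v => ⟨(v.1 : Y), v.1.2, mem_centralizer_singleton_iff.2 ((hker v.1).1 v.2).symm⟩
        invFun := fun v => ⟨⟨v.1, v.2.1⟩, (hker _).2 (mem_centralizer_singleton_iff.1 v.2.2).symm⟩
        left_inv := fun v => rfl
        right_inv := fun v => rfl }
  have hmul : Nat.card d.ker * Nat.card d.range = 16 := by
    rw [← hV, ← d.ker.card_mul_index, index_ker]
  have hle : Nat.card d.range ≤ Nat.card d.ker := Nat.card_le_card_of_injective _ (inclusion_injective hrk)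
  -- the same for the conjugate `t * f`
  have hsmall : Nat.card ↥(V ⊓ centralizer {t}) ≤ 4 := by
    by_contra! hbig
    have h8 : 8 ≤ Nat.card ↥(V ⊓ centralizer {t}) := by
      obtain ⟨b, hb⟩ := (hV2.to_le (inf_le_left : V ⊓ centralizer {t} ≤ V)).exists_card_eq
      rw [hb] at hbig ⊢
      have : 3 ≤ b := (Nat.pow_lt_pow_iff_right (lt_add_one 1)).1 (show 2 ^ 2 < 2 ^ b from hbig)
      exact le_trans (by norm_num) (Nat.pow_le_pow_right (by norm_num) this)
    -- conjugating by a power of `f` moves the centraliser of `t` onto that of `t * f`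
    set C := V ⊓ centralizer {t} with hC
    set D := C.map (MulAut.conj (f ^ 2)).toMonoidHom with hD
    have hDV : D ≤ V := by
      rintro _ ⟨x, hx, rfl⟩
      exact ‹V.Normal›.conj_mem x hx.1 _
    have hDC : D ⊓ C = ⊥ := by
      rw [eq_bot_iff]
      rintro x ⟨⟨y, hy, hyx⟩, hx⟩
      refine mem_bot.2 (hf x hx.1 ?_)
      have h1 : Commute t x := (mem_centralizer_singleton_iff.1 hx.2).symm
      have h2 : Commute t y := (mem_centralizer_singleton_iff.1 hy.2).symm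
      have h3 : Commute (f ^ 2 * t * (f ^ 2)⁻¹) x := by
        rw [← hyx]
        have h' := h2.map (MulAut.conj (f ^ 2)).toMonoidHom
        exact h'
      have ht : f ^ 2 * t * (f ^ 2)⁻¹ = f ^ 4 * t := by
        have : t * (f ^ 2)⁻¹ = f ^ 2 * t := by
          have h := congrArg (fun z => (z⁻¹) ^ 2) E.tf
          simp only [inv_inv, ← MulAut.conj_apply, ← map_inv, ← map_pow] at h
          rw [MulAut.conj_apply, inv_pow] at h
          exact mul_inv_eq_iff_eq_mul.1 h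
        rw [mul_assoc, this, ← mul_assoc, ← pow_add]
      rw [ht] at h3
      have h4 : Commute (f ^ 4) x := by simpa using h3.mul_left h1.inv_left
      have h5 : f ^ 4 = f⁻¹ := eq_inv_of_mul_eq_one_left (by rw [← pow_succ, E.f5])
      rw [h5] at h4
      simpa using h4.inv_left.eq
    have hcard : Nat.card D = Nat.card C :=
      card_map_of_injective (MulAut.conj (f ^ 2)).injective
    have hinj : Function.Injective (fun p : ↥D × ↥C => (⟨(p.1 : Y) * p.2, V.mul_mem (hDV p.1.2) p.2.2.1⟩ : ↥V)) := by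
      rintro ⟨⟨a, ha⟩, ⟨b, hb⟩⟩ ⟨⟨a', ha'⟩, ⟨b', hb'⟩⟩ h
      have h' : a * b = a' * b' := congrArg Subtype.val h
      have : a'⁻¹ * a ∈ D ⊓ C := ⟨D.mul_mem (D.inv_mem ha') ha, by
        rw [show a'⁻¹ * a = b' * b⁻¹ by rw [eq_mul_inv_iff_mul_eq, mul_assoc, h', inv_mul_cancel_left]]
        exact C.mul_mem hb' (C.inv_mem hb)⟩
      rw [hDC, mem_bot, inv_mul_eq_one] at this
      subst this
      simp [mul_left_cancel h']
    have := Nat.card_le_card_of_injective _ hinj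
    rw [Nat.card_prod, hcard, hV] at this
    nlinarith
  rw [hkc] at hmul hle
  have hk4 : Nat.card ↥(V ⊓ centralizer {t}) = 4 := by nlinarith
  refine ⟨hV, hf, hk4, fun v hv htv => ?_, hg, fun W hW hWf => ?_⟩
  · have heq : d.range = d.ker := eq_of_le_of_card_ge hrk (by rw [hkc, hk4]; nlinarith)
    obtain ⟨w, hw⟩ : (⟨v, hv⟩ : ↥V) ∈ d.range := heq ▸ (hker _).2 htv
    exact ⟨w, w.2, (congrArg Subtype.val hw).symm⟩
  · obtain ⟨b, hb⟩ := (hV2.to_le hW).exists_card_eq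
    have hmod : Nat.card W ≡ 1 [MOD 5] := by
      refine (fixed_modEq E.f5 (W : Set Y) hWf).symm.trans (congrArg (· % 5) ?_)
      rw [Nat.card_eq_one_iff_unique]
      exact ⟨⟨fun x y => Subtype.ext ((hf x (hW x.2.1) x.2.2).trans (hf y (hW y.2.1) y.2.2).symm)⟩,
        ⟨⟨1, W.one_mem, by simp⟩⟩⟩
    have hle' : Nat.card W ≤ 16 := hV ▸ Nat.card_le_card_of_injective _ (inclusion_injective hW)
    rw [hb] at hmod hle'
    have hb4 : b ≤ 4 := (Nat.pow_le_pow_iff_right (le_refl 2)).1 (by simpa using hle')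
    interval_cases b
    · exact Or.inl (card_eq_one.1 (by simpa using hb))
    · simp [Nat.ModEq] at hmod
    · simp [Nat.ModEq] at hmod
    · simp [Nat.ModEq] at hmod
    · exact Or.inr (eq_of_le_of_card_ge hW (by rw [hV, hb]; norm_num))

end Cfsg.Agent.SecFour
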