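import Cfsg.Agent.SecFour.Extra
import Cfsg.Agent.Core.Frattini
import Cfsg.Agent.Core.PCore
import Cfsg.Agent.PConstr.Local
import Cfsg.Agent.MaxClass.Basic
import Cfsg.Agent.Fusion.UniqueInvolution

/-!
The structure of a self-centralising normal 2-subgroup of sectional rank four acted on by the alternating
group of degree five.
-/

set_option autoImplicit false
set_option maxHeartbeats 400000

namespace Cfsg.Agent.SecFour

open Subgroup

theorem frattini_le_of_squares {R : Type*} [Group R] [Finite R] (hR : IsPGroup 2 R) (W : Subgroup R)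
    (h : ∀ x : R, x * x ∈ W) : frattini R ≤ W := by
  have hWn : W.Normal := ⟨fun w hw y => by
    have := W.mul_mem (W.mul_mem (h y) (h (y⁻¹ * w))) (W.inv_mem hw)
    rwa [show y * y * (y⁻¹ * w * (y⁻¹ * w)) * w⁻¹ = y * w * y⁻¹ by group] at this⟩
  have hcm : ∀ a b : R, a * b * a⁻¹ * b⁻¹ ∈ W := fun a b =>
    commutator_mem (Q := ⊤) (fun x _ => h x) (mem_top a) (mem_top b)
  intro x hx
  by_contra hxW
  obtain ⟨M, ⟨hWM, hxM⟩, hmax⟩ := Set.Finite.exists_maximal
    (Set.toFinite {M : Subgroup R | W ≤ M ∧ x ∉ M}) ⟨W, le_rfl, hxW⟩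
  haveI hMn : M.Normal := ⟨fun n hn y => by
    have := M.mul_mem (hWM (hcm y n)) hn
    simpa [mul_assoc] using this⟩
  have hkey : ∀ y ∉ M, x * y ∈ M := by
    intro y hy
    have hxS : x ∈ M ⊔ zpowers y := by
      by_contra hn
      exact hy ((hmax ⟨hWM.trans le_sup_left, hn⟩ le_sup_left) (mem_sup_right (mem_zpowers y)))
    obtain ⟨m, hm, w, ⟨i, rfl⟩, hmw⟩ := mem_sup_of_normal_left.1 hxS
    dsimp only at hmw
    rcases Int.even_or_odd i with ⟨j, hj⟩ | ⟨j, hj⟩
    · exfalso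
      refine hxM (hmw ▸ M.mul_mem hm ?_)
      rw [hj, ← two_mul, zpow_mul]
      exact M.zpow_mem (by rw [zpow_two]; exact hWM (h y)) j
    · rw [← hmw, hj, mul_assoc, ← zpow_add_one, show 2 * j + 1 + 1 = 2 * (j + 1) by ring, zpow_mul]
      exact M.mul_mem hm (M.zpow_mem (by rw [zpow_two]; exact hWM (h y)) _)
  have hcoatom : IsCoatom M := by
    refine ⟨fun e => hxM (e ▸ mem_top x), fun N hN => ?_⟩
    obtain ⟨y, hyN, hyM⟩ := SetLike.exists_of_lt hN
    have hxN : x ∈ N := by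
      have := N.mul_mem (hN.le (hkey y hyM)) (N.inv_mem hyN)
      rwa [mul_inv_cancel_right] at this
    refine eq_top_iff.2 fun w _ => ?_
    by_cases hw : w ∈ M
    · exact hN.le hw
    · have := N.mul_mem (N.inv_mem hxN) (hN.le (hkey w hw))
      rwa [inv_mul_cancel_left] at this
  exact hxM (frattini_le_coatom hcoatom hx)

variable {Y : Type*} [Group Y] [Finite Y]

theorem exists_maximal_normal (P : Subgroup Y) (hP : P ≠ ⊥) :
    ∃ M : Subgroup Y, M.Normal ∧ M < P ∧ ∀ N : Subgroup Y, N.Normal → M ≤ N → N < P → N = M := by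
  obtain ⟨M, ⟨hMn, hMP⟩, hmax⟩ := Set.Finite.exists_maximal
    (Set.toFinite {M : Subgroup Y | M.Normal ∧ M < P}) ⟨⊥, inferInstance, bot_lt_iff_ne_bot.2 hP⟩
  exact ⟨M, hMn, hMP, fun N hN hMN hNP => le_antisymm (hmax ⟨hN, hNP⟩ hMN) hMN⟩

/-- A minimal normal subgroup inside a normal 2-subgroup. -/
theorem minimal_facts {Q Z : Subgroup Y} [Q.Normal] [Z.Normal] (h2 : IsPGroup 2 Q) (hZQ : Z ≤ Q) (hZ1 : Z ≠ ⊥)
    (hmin : ∀ N : Subgroup Y, N.Normal → N ≤ Z → N = ⊥ ∨ N = Z) :
    Q ≤ centralizer (Z : Set Y) ∧ (∀ a ∈ Z, a * a = 1) ∧ (Z ≤ center Y → Nat.card Z = 2) := by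
  haveI : Fact (Nat.Prime 2) := ⟨Nat.prime_two⟩
  have hQc : Q ≤ centralizer (Z : Set Y) := by
    rcases hmin (Z ⊓ centralizer (Q : Set Y)) inferInstance inf_le_left with h | h
    · exfalso
      haveI : Group.IsNilpotent ↥Q := h2.isNilpotent
      have hb : Z.subgroupOf Q ≠ ⊥ := fun e => hZ1
        (disjoint_self.1 ((subgroupOf_eq_bot.1 e).mono le_rfl hZQ))
      obtain ⟨⟨c, hcZ, hcc⟩, hc1⟩ := ne_bot_iff_exists_ne_one.1 (Agent.Core.inf_center_ne_bot hb)
      have : (c : Y) ∈ (⊥ : Subgroup Y) := h ▸ ⟨mem_subgroupOf.1 hcZ, mem_centralizer_iff.2 fun y hy =>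
        congrArg Subtype.val (mem_center_iff.1 hcc ⟨y, hy⟩)⟩
      exact hc1 (Subtype.ext (Subtype.ext (mem_bot.1 this)))
    · intro y hy
      exact mem_centralizer_iff.2 fun w hw => (mem_centralizer_iff.1 (h.ge hw).2 y hy).symm
  have hexp : ∀ a ∈ Z, a * a = 1 := by
    let Ω : Subgroup Y :=
      { carrier := {a | a ∈ Z ∧ a * a = 1}
        one_mem' := ⟨Z.one_mem, one_mul _⟩
        mul_mem' := fun {a b} ha hb => ⟨Z.mul_mem ha.1 hb.1, by
          rw [mul_assoc a b, ← mul_assoc b a b, mem_centralizer_iff.1 (hQc (hZQ ha.1)) b hb.1, mul_assoc a b b,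
            hb.2, mul_one, ha.2]⟩
        inv_mem' := fun {a} ha => ⟨Z.inv_mem ha.1, by rw [← mul_inv_rev, ha.2, inv_one]⟩ }
    haveI : Ω.Normal := ⟨fun a ha y => ⟨‹Z.Normal›.conj_mem a ha.1 y, by
      rw [show y * a * y⁻¹ * (y * a * y⁻¹) = y * (a * a) * y⁻¹ by group, ha.2]; group⟩⟩
    rcases hmin Ω inferInstance (fun a ha => ha.1) with h | h
    · exfalso
      obtain ⟨m, hm⟩ := (h2.to_le hZQ).exists_card_eq
      have : 2 ∣ Nat.card Z := hm ▸ dvd_pow_self 2 fun e => hZ1 (card_eq_one.1 (by rw [hm, e]; rfl))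
      obtain ⟨a, ha⟩ := exists_prime_orderOf_dvd_card' 2 this
      have h1 : a * a = 1 := by rw [← pow_two, ← ha, pow_orderOf_eq_one]
      have : (a : Y) ∈ (⊥ : Subgroup Y) := h ▸ ⟨a.2, by simpa using congrArg Subtype.val h1⟩
      rw [show a = 1 from Subtype.ext (mem_bot.1 this), orderOf_one] at ha
      norm_num at ha
    · exact fun a ha => (h.ge ha).2
  refine ⟨hQc, hexp, fun hc => ?_⟩
  obtain ⟨⟨m, hmZ⟩, hm⟩ := ne_bot_iff_exists_ne_one.1 hZ1
  have hm1 : m ≠ 1 := fun e => hm (Subtype.ext e)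
  haveI : (zpowers m).Normal := ⟨fun a ha y => by
    rw [mem_center_iff.1 (hc (zpowers_le.2 hmZ ha)) y, mul_inv_cancel_right]; exact ha⟩
  rcases hmin (zpowers m) inferInstance (zpowers_le.2 hmZ) with h | h
  · exact absurd (zpowers_eq_bot.1 h) hm1
  · rw [← h, Nat.card_zpowers]
    exact orderOf_eq_prime (by rw [pow_two]; exact hexp m hmZ) hm1

theorem map_mk_minimal {M P : Subgroup Y} [M.Normal] (hMP : M < P)
    (hmax : ∀ N : Subgroup Y, N.Normal → M ≤ N → N < P → N = M) :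
    P.map (QuotientGroup.mk' M) ≠ ⊥ ∧
      ∀ N : Subgroup (Y ⧸ M), N.Normal → N ≤ P.map (QuotientGroup.mk' M) → N = ⊥ ∨ N = P.map (QuotientGroup.mk' M) := by
  refine ⟨fun h => not_le_of_gt hMP fun p hp =>
    (QuotientGroup.eq_one_iff p).1 (mem_bot.1 (h ▸ ⟨p, hp, rfl⟩)), fun N hN hNP => ?_⟩
  set mk := QuotientGroup.mk' M with hmk
  have hle : M ≤ N.comap mk := fun m hm => mem_comap.2 (by
    rw [hmk, QuotientGroup.mk'_apply, (QuotientGroup.eq_one_iff m).2 hm]; exact N.one_mem)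
  have hNP' : N.comap mk ≤ P := by
    intro y hy
    obtain ⟨p, hp, e⟩ := hNP hy
    have := P.mul_mem hp (hMP.le (QuotientGroup.eq.1 (show (p : Y ⧸ M) = y from e)))
    simpa using this
  have hmap : (N.comap mk).map mk = N := map_comap_eq_self_of_surjective (QuotientGroup.mk'_surjective M) N
  rcases hNP'.lt_or_eq with h | h
  · left
    rw [← hmap, hmax _ (hN.comap mk) hle h, hmk, QuotientGroup.map_mk'_self]
  · right
    rw [← hmap, h]

variable {Q : Subgroup Y} [hQn : Q.Normal] {f t g : Y}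

theorem Top.quotient {P : Subgroup Y} (T : Top Y Q P f) (M : Subgroup Y) [M.Normal] (hM : M ≤ P) :
    Top (Y ⧸ M) (Q.map (QuotientGroup.mk' M)) (P.map (QuotientGroup.mk' M)) (f : Y ⧸ M) := by
  obtain ⟨x, hx, hfx⟩ := T.faith
  refine ⟨map_mono T.le, ?_, ⟨QuotientGroup.mk' M x, ⟨x, hx, rfl⟩, fun ⟨a, ha, e⟩ => hfx ?_⟩⟩
  · rintro _ ⟨a, ha, rfl⟩
    exact ⟨a * a, T.sq a ha, map_mul _ _ _⟩
  · have := P.mul_mem ha (hM (QuotientGroup.eq.1
      (show ((a : Y) : Y ⧸ M) = ((f * x * f⁻¹ * x⁻¹ : Y) : Y ⧸ M) by simpa using e)))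
    simpa using this

/-- The possible structures of `Q`. -/
theorem Ext.structure' (E : Ext Y Q f t g) (hself : centralizer (Q : Set Y) ≤ Q) :
    (Nat.card Q = 16 ∧ ∀ x ∈ Q, x * x = 1) ∨
      ∃ Z : Subgroup Y, Z.Normal ∧ Z ≤ Q ∧ Nat.card Z = 2 ∧ Nat.card Q = 32 ∧ (∀ x ∈ Q, x * x ∈ Z) ∧
        Nat.card {x : Y // x ∈ Q ∧ x * x = 1} = 12 ∧ (∀ x ∈ Q, (∀ y ∈ Q, x * y = y * x) → x ∈ Z) := by
  haveI : Fact (Nat.Prime 2) := ⟨Nat.prime_two⟩
  haveI : Fact (Nat.Prime 5) := ⟨by norm_num⟩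
  set Φ := (frattini ↥Q).map Q.subtype with hΦdef
  have hΦQ : Φ ≤ Q := map_subtype_le _
  have hsq : ∀ x ∈ Q, x * x ∈ Φ := fun x hx =>
    ⟨(⟨x, hx⟩ : ↥Q) ^ 2, Agent.Core.pow_mem_frattini E.two _, by simp [pow_two]⟩
  have hgen : ∀ W : Subgroup Y, (∀ x ∈ Q, x * x ∈ W) → Φ ≤ W := by
    intro W hW
    refine le_trans (map_mono (frattini_le_of_squares E.two (W.subgroupOf Q) fun x => mem_subgroupOf.2 (hW x x.2))) ?_
    rintro _ ⟨w, hw, rfl⟩
    exact hw
  have hfaith : ∃ x ∈ Q, f * x * f⁻¹ * x⁻¹ ∉ Φ := by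
    by_contra! h
    refine E.fQ (hself (mem_centralizer_iff.2 fun x hx => ?_))
    have htop : (centralizer {f}).subgroupOf Q ⊔ frattini ↥Q = ⊤ := by
      refine eq_top_iff.2 fun ⟨y, hy⟩ _ => ?_
      set S : Set Y := (fun c => c * y) '' (Φ : Set Y) with hS
      have hScard : Nat.card S = Nat.card Φ := Nat.card_image_of_injective (mul_left_injective y) _
      have hSinv : ∀ a ∈ S, f * a * f⁻¹ ∈ S := by
        rintro _ ⟨c, hc, rfl⟩
        refine ⟨f * c * f⁻¹ * (f * y * f⁻¹ * y⁻¹), Φ.mul_mem ?_ (h y hy), by group⟩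
        exact (inferInstance : Φ.Normal).conj_mem c hc f
      have hmod := fixed_modEq E.f5 S hSinv
      rw [hScard] at hmod
      obtain ⟨k, hk⟩ := (E.two.to_le hΦQ).exists_card_eq
      obtain ⟨⟨a, ⟨c, hc, rfl⟩, hfa⟩⟩ : Nonempty {a : Y // a ∈ S ∧ f * a = a * f} := by
        by_contra hne
        rw [not_nonempty_iff] at hne
        rw [Nat.card_of_isEmpty, hk] at hmod
        have h5 : 5 ∣ 2 ^ k := (Nat.modEq_zero_iff_dvd).1 hmod.symm
        exact absurd ((Nat.prime_five).dvd_of_dvd_pow h5) (by norm_num)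
      obtain ⟨c', hc', e⟩ := hc
      have hy' : (⟨y, hy⟩ : ↥Q) = c'⁻¹ * ⟨c * y, Q.mul_mem (hΦQ ⟨c', hc', e⟩) hy⟩ := Subtype.ext (by
        simp [← e])
      rw [hy']
      exact mul_mem (inv_mem (mem_sup_right hc')) (mem_sup_left (mem_subgroupOf.2
        (mem_centralizer_singleton_iff.2 hfa.symm)))
    have := frattini_nongenerating htop
    exact (mem_centralizer_singleton_iff.1 (mem_subgroupOf.1 (this ▸ mem_top (⟨x, hx⟩ : ↥Q))))
  have T : Top Y Q Φ f := ⟨hΦQ, hsq, hfaith⟩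
  by_cases hΦ : Φ = ⊥
  · left
    refine ⟨?_, fun x hx => mem_bot.1 (hΦ ▸ hsq x hx)⟩
    rw [(E.top_layer T).1, hΦ, card_bot]
  right
  obtain ⟨M, hMn, hMΦ, hmax⟩ := exists_maximal_normal Φ hΦ
  haveI : Φ.Normal := inferInstance
  set mk := QuotientGroup.mk' M with hmk
  haveI : (Q.map mk).Normal := hQn.map _ (QuotientGroup.mk'_surjective M)
  haveI : (Φ.map mk).Normal := Normal.map inferInstance _ (QuotientGroup.mk'_surjective M)
  obtain ⟨hne, hmin⟩ := map_mk_minimal hMΦ hmax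
  have E' := E.quotient M (hMΦ.le.trans hΦQ)
  have T' := T.quotient M hMΦ.le
  obtain ⟨hc, hexp, h2⟩ := minimal_facts E'.two T'.le hne hmin
  have hcen : Φ.map mk ≤ center (Y ⧸ M) := by
    by_contra h
    exact E'.no_two_layers T' hexp hc h
  have hcard : Nat.card Φ = 2 * Nat.card M := by
    rw [card_map_mk M hMΦ.le, h2 hcen]
  by_cases hM : M = ⊥
  · have hΦ2 : Nat.card Φ = 2 := by rw [hcard, hM, card_bot]
    obtain ⟨x, hx, hxx⟩ : ∃ x ∈ Q, x * x ≠ 1 := by
      by_contra! h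
      exact hΦ (le_bot_iff.1 (hgen ⊥ fun x hx => mem_bot.2 (h x hx)))
    obtain ⟨h32, h12, hcz⟩ := E.extra T hΦ2 ⟨x, hx, hxx⟩
    exact ⟨Φ, inferInstance, hΦQ, hΦ2, h32, hsq, h12, hcz⟩
  · exfalso
    obtain ⟨L, hLn, hLM, hLmax⟩ := exists_maximal_normal M hM
    have hLΦ : L ≤ Φ := hLM.le.trans hMΦ.le
    haveI : (Q.map (QuotientGroup.mk' L)).Normal := hQn.map _ (QuotientGroup.mk'_surjective L)
    haveI : (Φ.map (QuotientGroup.mk' L)).Normal := Normal.map inferInstance _ (QuotientGroup.mk'_surjective L)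
    haveI : (M.map (QuotientGroup.mk' L)).Normal := hMn.map _ (QuotientGroup.mk'_surjective L)
    obtain ⟨hne', hmin'⟩ := map_mk_minimal hLM hLmax
    refine (E.quotient L (hLΦ.trans hΦQ)).no_third_layer (T.quotient L hLΦ) (map_mono hMΦ.le) ?_ hne' hmin' ?_
    · have h1 : Nat.card Φ = Nat.card ↥(Φ.map (QuotientGroup.mk' L)) * Nat.card L := card_map_mk L hLΦ
      have h3 : Nat.card M = Nat.card ↥(M.map (QuotientGroup.mk' L)) * Nat.card L := card_map_mk L hLM.le
      rw [hcard, h3, ← mul_assoc] at h1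
      exact (Nat.eq_of_mul_eq_mul_right Nat.card_pos h1).symm
    · intro W hW
      refine map_le_iff_le_comap.2 (hgen _ fun x hx => ?_)
      rw [mem_comap, map_mul]
      exact hW _ ⟨x, hx, rfl⟩

/-- A group of order 32 with twelve solutions of `x * x = 1` as in an extraspecial group of minus type. -/
theorem central_product {R : Type*} [Group R] [Finite R] (hR : Nat.card R = 32) (z : R) (hz : z ≠ 1)
    (hzc : ∀ x, z * x = x * z) (hsq : ∀ x : R, x * x = 1 ∨ x * x = z)
    (hcz : ∀ x : R, (∀ y, x * y = y * x) → x = 1 ∨ x = z)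
    (h12 : Nat.card {x : R // x * x = 1} = 12) :
    ∃ A B : Subgroup R, Nonempty (↥A ≃* QuaternionGroup 2) ∧ Nonempty (↥B ≃* DihedralGroup 4) ∧
      (∀ a ∈ A, ∀ b ∈ B, a * b = b * a) ∧ A ⊔ B = ⊤ ∧ A ⊓ B = center R := by
  classical
  letI := Fintype.ofFinite R
  have hzz : z * z = 1 := (hsq z).resolve_right fun h => hz (mul_eq_left.1 h)
  -- commutators
  have hcm : ∀ x y : R, y * x = x * y ∨ y * x = x * y * z := by
    intro x y
    have e : y * x = (x * x)⁻¹ * x * (x * y * (x * y)) * (y * y)⁻¹ * y := by group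
    have hi : ∀ a : R, (a * a)⁻¹ = 1 ∨ (a * a)⁻¹ = z := fun a => (hsq a).imp (fun h => by rw [h, inv_one])
      fun h => by rw [h]; exact inv_eq_of_mul_eq_one_right hzz
    rcases hi x with a | a <;> rcases hsq (x * y) with b | b <;> rcases hi y with c | c <;>
      rw [a, b, c] at e <;> rw [e] <;> simp [hzc, mul_assoc, hzz]
  have hcc : ∀ w : R, ∀ a b : R, w * a = a * w * z → w * b = b * w * z → w * (a * b) = a * b * w := by
    intro w a b ha hb
    rw [← mul_assoc, ha, mul_assoc (a * w) z b, hzc b, ← mul_assoc, mul_assoc a w b, hb]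
    simp [mul_assoc, hzz]
  obtain ⟨s, hs1, hss, hsz⟩ : ∃ s : R, s ≠ 1 ∧ s * s = 1 ∧ s ≠ z := by
    by_contra! h
    have : Nat.card {x : R // x * x = 1} ≤ Nat.card ({1, z} : Set R) :=
      Nat.card_mono (Set.toFinite _) fun x hx => by
        by_cases hx1 : x = 1
        · simp [hx1]
        · simp [h x hx1 hx]
    rw [h12] at this
    simp [hz.symm] at this
  obtain ⟨y₀, hy₀⟩ : ∃ y, s * y ≠ y * s := by
    by_contra! h
    rcases hcz s h with e | e <;> contradiction
  obtain ⟨y, hyy, hsy⟩ : ∃ y, y * y = 1 ∧ s * y = y * s * z := by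
    have h0 : s * y₀ = y₀ * s * z := (hcm y₀ s).resolve_left hy₀
    rcases hsq y₀ with h | h
    · exact ⟨y₀, h, h0⟩
    · refine ⟨s * y₀, ?_, ?_⟩
      · calc s * y₀ * (s * y₀) = (y₀ * s * z) * (s * y₀) := by rw [h0]
          _ = y₀ * (s * s) * y₀ * z := by simp [mul_assoc, hzc]
          _ = 1 := by rw [hss, mul_one, h, hzz]
      · conv_lhs => rw [h0]
        simp [mul_assoc, hzc]
  -- commuting with a fixed element is a parity
  have hpar : ∀ a x x' : R, Commute (x * x') a ↔ (Commute x a ↔ Commute x' a) := by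
    intro a x x'
    by_cases h1 : Commute x a
    · simp only [h1, true_iff]
      refine ⟨fun h => ?_, fun h => h1.mul_left h⟩
      simpa using h1.inv_left.mul_left h
    by_cases h2 : Commute x' a
    · simp only [h1, h2, iff_true, iff_false]
      intro h
      exact h1 (by simpa using h.mul_left h2.inv_left)
    simp only [h1, h2, iff_true]
    have n1 : a * x = x * a * z := (hcm x a).resolve_left fun e => h1 e.symm
    have n2 : a * x' = x' * a * z := (hcm x' a).resolve_left fun e => h2 e.symm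
    exact (hcc a x x' n1 n2).symm
  have hsy' : ¬ Commute s y := fun e => hz (mul_eq_left.1 (hsy.symm.trans e))
  let C : Subgroup R := centralizer {s} ⊓ centralizer {y}
  have hC : ∀ c, c ∈ C ↔ Commute c s ∧ Commute c y := fun c => by
    simp only [C, mem_inf, mem_centralizer_singleton_iff, commute_iff_eq]
  have hzC : z ∈ C := (hC z).2 ⟨hzc s, hzc y⟩
  let w : Fin 4 → R := ![1, s, y, s * y]
  have w0 : w 0 = 1 := rfl
  have w1 : w 1 = s := rfl
  have w2 : w 2 = y := rfl
  have w3 : w 3 = s * y := rfl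
  have c00 : Commute s s := Commute.refl s
  have c11 : Commute y y := Commute.refl y
  have c10 : ¬ Commute y s := fun e => hsy' e.symm
  have hdec : ∀ x : R, ∃ i, x * (w i)⁻¹ ∈ C := by
    intro x
    simp only [hC, hpar, Commute.inv_left_iff]
    by_cases h1 : Commute x s <;> by_cases h2 : Commute x y
    · exact ⟨0, by simp [w0, h1, h2]⟩
    · exact ⟨1, by simp [w1, h1, h2, c00, hsy']⟩
    · exact ⟨2, by simp [w2, h1, h2, c11, c10]⟩
    · exact ⟨3, by simp [w3, hpar, h1, h2, c00, c11, c10, hsy']⟩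
  have hwinj : ∀ i j, w i * (w j)⁻¹ ∈ C → i = j := by
    intro i j
    simp only [hC, hpar, Commute.inv_left_iff]
    fin_cases i <;> fin_cases j <;> simp [w0, w1, w2, w3, hpar, c00, c11, c10, hsy']
  have hwC : ∀ i, ∀ c ∈ C, c * w i = w i * c := by
    intro i c hc
    obtain ⟨h1, h2⟩ := (hC c).1 hc
    fin_cases i
    · simp [w0]
    · exact h1.eq
    · exact h2.eq
    · exact (h1.mul_right h2).eq
  have hbij : Function.Bijective fun q : Fin 4 × ↥C => (q.2 : R) * w q.1 := by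
    refine ⟨fun ⟨i, c⟩ ⟨j, d⟩ h => ?_, fun x => ?_⟩
    · simp only at h
      obtain rfl : i = j := hwinj i j (by
        rw [show w i * (w j)⁻¹ = (c : R)⁻¹ * d by
          rw [mul_inv_eq_iff_eq_mul, mul_assoc, ← h, inv_mul_cancel_left]]
        exact C.mul_mem (C.inv_mem c.2) d.2)
      exact Prod.ext rfl (Subtype.ext (mul_right_cancel h))
    · obtain ⟨i, hi⟩ := hdec x
      exact ⟨⟨i, ⟨_, hi⟩⟩, inv_mul_cancel_right x (w i)⟩
  have hC8 : Fintype.card ↥C = 8 := by
    have := Fintype.card_of_bijective hbij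
    rw [Fintype.card_prod, Fintype.card_fin, ← Nat.card_eq_fintype_card (α := R), hR] at this
    omega
  have hk : ∀ c ∈ C, c * c = 1 → c = 1 ∨ c = z := by
    let F : Finset ↥C := Finset.univ.filter fun c : ↥C => (c : R) * c = 1
    have hcount : 12 = ∑ i : Fin 4, (Finset.univ.filter fun c : ↥C => ((c : R) * c) * (w i * w i) = 1).card := by
      rw [← h12, ← Nat.card_congr ((Equiv.ofBijective _ hbij).subtypeEquiv (p := fun q => (q.2 : R) * w q.1 * ((q.2 : R) * w q.1) = 1) fun q => Iff.rfl),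
        Nat.card_eq_fintype_card, Fintype.card_subtype, Finset.card_filter, Fintype.sum_prod_type]
      refine Finset.sum_congr rfl fun i _ => ?_
      rw [Finset.card_filter]
      refine Finset.sum_congr rfl fun c _ => ?_
      rw [mul_assoc (c : R) (w i), ← mul_assoc (w i) (c : R), ← hwC i c c.2]
      simp only [mul_assoc]
    have h3 : (s * y) * (s * y) = z := by
      conv_lhs => arg 1; rw [hsy]
      simp [mul_assoc, hzc, ← mul_assoc s s, hss, ← mul_assoc y y, hyy]
    have hFc : (Finset.univ.filter fun c : ↥C => (c : R) * c * z = 1).card = 8 - F.card := by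
      have hsplit : (Finset.univ.filter fun c : ↥C => (c : R) * c * z = 1) = Fᶜ := by
        ext c
        simp only [F, Finset.mem_filter, Finset.mem_univ, true_and, Finset.mem_compl]
        rcases hsq (c : R) with h | h <;> simp [h, hz, hzz]
      rw [hsplit, Finset.card_compl, hC8]
    simp only [Fin.sum_univ_four, w0, w1, w2, w3, hss, hyy, h3, one_mul, mul_one, hFc] at hcount
    have hle : F.card ≤ 8 := hC8 ▸ Finset.card_le_univ F
    have hF2 : F.card = 2 := by
      simp only [F] at hcount hle ⊢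
      omega
    intro c hc hcc'
    have hsub : ({1, ⟨z, hzC⟩} : Finset ↥C) ⊆ F := by
      simp [Finset.insert_subset_iff, F, hzz]
    have heq := Finset.eq_of_subset_of_card_le hsub (by
      rw [hF2, Finset.card_pair (fun e => hz (congrArg Subtype.val e).symm)])
    have hmem : (⟨c, hc⟩ : ↥C) ∈ F := by simp [F, hcc']
    rw [← heq] at hmem
    simpa [Subtype.ext_iff] using hmem
  obtain ⟨c₁, hc₁, hc₁1, hc₁z⟩ : ∃ c ∈ C, c ≠ 1 ∧ c ≠ z := by
    by_contra! h
    have : (Finset.univ : Finset ↥C) ⊆ {1, ⟨z, hzC⟩} := fun c _ => by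
      by_cases e : (c : R) = 1
      · simp [Subtype.ext_iff, e]
      · simp [Subtype.ext_iff, h c c.2 e]
    have := Finset.card_le_card this
    rw [Finset.card_univ, hC8] at this
    exact absurd (this.trans Finset.card_le_two) (by norm_num)
  have hc₁2 : c₁ * c₁ = z := (hsq c₁).resolve_left fun h => by rcases hk c₁ hc₁ h with e | e <;> contradiction
  obtain ⟨c₂, hc₂, hnc⟩ : ∃ c ∈ C, ¬ Commute c c₁ := by
    by_contra! h
    rcases hcz c₁ (fun x => by
      obtain ⟨⟨i, c⟩, rfl⟩ := hbij.surjective x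
      exact ((h c c.2).symm.mul_right (hwC i c₁ hc₁)).eq) with e | e <;> contradiction
  have hc₂2 : c₂ * c₂ = z := (hsq c₂).resolve_left fun h => by
    rcases hk c₂ hc₂ h with e | e
    · exact hnc (e ▸ Commute.one_left _)
    · exact hnc (e ▸ hzc c₁)
  have hord : orderOf c₁ = 4 := orderOf_eq_prime_pow (p := 2) (n := 1)
    (by rw [pow_one, pow_two, hc₁2]; exact hz)
    (by rw [show 2 ^ (1 + 1) = 2 * 2 from rfl, pow_mul, pow_two, pow_two, hc₁2, hzz])
  have hQ : Nonempty (↥C ≃* QuaternionGroup 2) := by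
    set a : ↥C := ⟨c₁, hc₁⟩ with ha
    set g : ↥C := ⟨c₂, hc₂⟩ with hg
    have hgA : g ∉ zpowers a := by
      rintro ⟨i, hi⟩
      refine hnc ?_
      have : c₁ ^ i = c₂ := by simpa [ha, hg] using congrArg Subtype.val hi
      rw [← this]; exact (Commute.refl c₁).zpow_left i
    have horda : orderOf a = 4 := by rw [ha, orderOf_mk, hord]
    have hidx : (zpowers a).index = 2 := by
      have h := (zpowers a).card_mul_index
      rw [Nat.card_zpowers, horda, Nat.card_eq_fintype_card, hC8] at h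
      omega
    refine Agent.Fusion.nonempty_mulEquiv_quaternion 2 (a := a) (g := g) horda ?_ ?_ hgA fun x => ?_
    · exact Subtype.ext (by simp [ha, hg, hc₂2, pow_two, hc₁2])
    · refine Subtype.ext ?_
      show c₂⁻¹ * c₁ * c₂ = c₁⁻¹
      have h := (hcm c₂ c₁).resolve_left fun e => hnc e.symm
      rw [mul_assoc, h, ← mul_assoc, inv_mul_cancel_left]
      exact eq_inv_of_mul_eq_one_left (by rw [mul_assoc, hzc, ← mul_assoc, hc₁2, hzz])
    · by_cases hx : x ∈ zpowers a
      · exact Or.inl hx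
      · exact Or.inr ((mul_mem_iff_of_index_two hidx).2 (by simp [hx, hgA]))
  have hd2' : s * y * (s * y) = z := by
    conv_lhs => arg 1; rw [hsy]
    simp [mul_assoc, hzc, ← mul_assoc s s, hss, ← mul_assoc y y, hyy]
  set d := s * y with hd
  have hd2 : d * d = z := hd2'
  have hordd : orderOf d = 4 := orderOf_eq_prime_pow (p := 2) (n := 1)
    (by rw [pow_one, pow_two, hd2]; exact hz)
    (by rw [show 2 ^ (1 + 1) = 2 * 2 from rfl, pow_mul, pow_two, pow_two, hd2, hzz])
  have hzd : z ∈ zpowers d := ⟨2, show d ^ (2 : ℤ) = z by rw [zpow_two, hd2]⟩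
  haveI : (zpowers d).Normal := ⟨fun n hn r => by
    rcases hcm n r with h | h
    · rw [h, mul_inv_cancel_right]; exact hn
    · rw [show r * n * r⁻¹ = n * r * z * r⁻¹ by rw [h], mul_assoc n r z, ← hzc r, ← mul_assoc, mul_inv_cancel_right]
      exact mul_mem hn hzd⟩
  have hds : s * d * s⁻¹ = d⁻¹ := by
    rw [hd, mul_inv_rev, inv_eq_of_mul_eq_one_right hss, inv_eq_of_mul_eq_one_right hyy, ← mul_assoc, hss, one_mul]
  set B := zpowers d ⊔ zpowers s with hB
  have hdB : d ∈ B := mem_sup_left (mem_zpowers d)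
  have hsB : s ∈ B := mem_sup_right (mem_zpowers s)
  have hyB : y ∈ B := by
    have := B.mul_mem hsB hdB
    rwa [hd, ← mul_assoc, hss, one_mul] at this
  have hD : Nonempty (↥B ≃* DihedralGroup 4) := by
    refine Agent.MaxClass.nonempty_mulEquiv_dihedral 4 (a := (⟨d, hdB⟩ : ↥B)) (g := ⟨s, hsB⟩)
      (by rw [orderOf_mk, hordd]) (Subtype.ext hss) (Subtype.ext hds) ?_ fun x => ?_
    · rintro ⟨i, hi⟩
      have he : d ^ i = s := by simpa using congrArg Subtype.val hi
      have : Commute s d := by rw [← he]; exact (Commute.refl d).zpow_left i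
      refine hsy' ?_
      simpa [hd, ← mul_assoc] using (Commute.refl s).inv_right.mul_right this
    · have key : ∀ v : R, ∀ hv : v ∈ B, v ∈ zpowers d → (⟨v, hv⟩ : ↥B) ∈ zpowers (⟨d, hdB⟩ : ↥B) := by
        rintro v hv ⟨i, hi⟩
        exact ⟨i, Subtype.ext (by simpa using hi)⟩
      obtain ⟨n, hn, v, ⟨i, rfl⟩, hx⟩ := mem_sup_of_normal_left.1 x.2
      dsimp only at hx
      rcases Int.even_or_odd i with ⟨j, hj⟩ | ⟨j, hj⟩
      · left
        refine key _ x.2 (hx ▸ ?_)
        rw [hj, ← two_mul, zpow_mul, zpow_two, hss, one_zpow, mul_one]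
        exact hn
      · right
        refine key _ _ ?_
        show s⁻¹ * (x : R) ∈ zpowers d
        rw [← hx, hj, zpow_add_one, zpow_mul, zpow_two, hss, one_zpow, one_mul, ← mul_assoc]
        simpa using (inferInstance : (zpowers d).Normal).conj_mem n hn s⁻¹
  have hcomm : ∀ c ∈ C, ∀ b ∈ B, c * b = b * c := by
    intro c hc b hb
    obtain ⟨h1, h2⟩ := (hC c).1 hc
    have : B ≤ centralizer {c} := sup_le (zpowers_le.2 (mem_centralizer_singleton_iff.2 (h1.mul_right h2).eq.symm))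
      (zpowers_le.2 (mem_centralizer_singleton_iff.2 h1.eq.symm))
    exact (mem_centralizer_singleton_iff.1 (this hb)).symm
  have htop : C ⊔ B = ⊤ := by
    refine eq_top_iff.2 fun x _ => ?_
    obtain ⟨⟨i, c⟩, rfl⟩ := hbij.surjective x
    refine mul_mem_sup c.2 ?_
    fin_cases i
    · exact B.one_mem
    · exact hsB
    · exact hyB
    · exact hdB
  refine ⟨C, B, hQ, hD, hcomm, htop, le_antisymm (fun x hx => mem_center_iff.2 fun r => ?_) fun x hx => ?_⟩
  · have hle : C ⊔ B ≤ centralizer {x} := sup_le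
      (fun c hc => mem_centralizer_singleton_iff.2 (hcomm c hc x hx.2))
      (fun b hb => mem_centralizer_singleton_iff.2 (hcomm x hx.1 b hb).symm)
    exact mem_centralizer_singleton_iff.1 (hle (htop ▸ mem_top r))
  · rcases hcz x (fun r => (mem_center_iff.1 hx r).symm) with e | e <;> rw [e]
    · exact one_mem _
    · exact ⟨hzC, hd2 ▸ B.mul_mem hdB hdB⟩

end Cfsg.Agent.SecFour
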