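import Cfsg.Agent.SecFour.Basic

/-!
An elementary abelian normal subgroup of order sixteen on which a four-group acts freely, extended by one more
commuting involution of the quotient, has a section of rank five.
-/

set_option autoImplicit false
set_option maxHeartbeats 400000

namespace Cfsg.Agent.SecFour

open Subgroup

variable {Y : Type*} [Group Y]

/-- commutation modulo `N`, for elements centralising `N` -/
def CommMod (N : Subgroup Y) (x y : Y) : Prop := x * y * x⁻¹ * y⁻¹ ∈ N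

theorem CommMod.symm {N : Subgroup Y} {x y : Y} (h : CommMod N x y) : CommMod N y x := by
  have := inv_mem h
  show y * x * y⁻¹ * x⁻¹ ∈ N
  simpa [mul_assoc] using this

theorem CommMod.mul {N : Subgroup Y} {x y z : Y} (hy : ∀ n ∈ N, y * n = n * y) (h : CommMod N x y)
    (h' : CommMod N x z) : CommMod N x (y * z) := by
  show x * (y * z) * x⁻¹ * (y * z)⁻¹ ∈ N
  have e : x * (y * z) * x⁻¹ * (y * z)⁻¹ =
      (x * y * x⁻¹ * y⁻¹) * (y * (x * z * x⁻¹ * z⁻¹) * y⁻¹) := by group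
  rw [e, hy _ h', mul_inv_cancel_right]
  exact mul_mem h h'

/-- `K` is elementary abelian modulo the subgroup `N` that it centralises -/
structure Elem (N K : Subgroup Y) : Prop where
  le : N ≤ K
  cen : ∀ k ∈ K, ∀ n ∈ N, k * n = n * k
  sq : ∀ k ∈ K, k * k ∈ N

theorem Elem.extend [Finite Y] {N K : Subgroup Y} (h : Elem N K) {x : Y} (hxN : ∀ n ∈ N, x * n = n * x)
    (hx2 : x * x ∈ N) (hxK : ∀ k ∈ K, CommMod N x k) (hx : x ∉ K) :
    ∃ K' : Subgroup Y, Elem N K' ∧ x ∈ K' ∧ K ≤ K' ∧ (∀ y ∈ K', ∃ k ∈ K, y = k ∨ y = x * k) ∧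
      2 * Nat.card K ≤ Nat.card K' := by
  -- conjugation by `x` stays in `K`
  have hswap : ∀ k ∈ K, ∃ k' ∈ K, k * x = x * k' := by
    intro k hk
    have h1 : x⁻¹ * k * x * k⁻¹ ∈ N := by
      have h2 : x * k * x⁻¹ * k⁻¹ ∈ N := hxK k hk
      have e : x⁻¹ * k * x * k⁻¹ = x⁻¹ * (x * k * x⁻¹ * k⁻¹)⁻¹ * x := by group
      rw [e, mul_assoc, ← hxN _ (inv_mem h2), inv_mul_cancel_left]
      exact inv_mem h2
    exact ⟨x⁻¹ * k * x * k⁻¹ * k, mul_mem (h.le h1) hk, by group⟩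
  let K' : Subgroup Y :=
    { carrier := {y | ∃ k ∈ K, y = k ∨ y = x * k}
      one_mem' := ⟨1, one_mem K, Or.inl rfl⟩
      mul_mem' := by
        rintro y z ⟨k, hk, hy⟩ ⟨l, hl, hz⟩
        rcases hy with hy | hy <;> rcases hz with hz | hz <;> rw [hy, hz]
        · exact ⟨k * l, mul_mem hk hl, Or.inl rfl⟩
        · obtain ⟨k', hk', e⟩ := hswap k hk
          exact ⟨k' * l, mul_mem hk' hl, Or.inr (by rw [← mul_assoc, e, mul_assoc])⟩
        · exact ⟨k * l, mul_mem hk hl, Or.inr (mul_assoc x k l)⟩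
        · obtain ⟨k', hk', e⟩ := hswap k hk
          refine ⟨x * x * (k' * l), mul_mem (h.le hx2) (mul_mem hk' hl), Or.inl ?_⟩
          rw [show x * k * (x * l) = x * (k * x) * l by group, e]
          group
      inv_mem' := by
        rintro y ⟨k, hk, hy⟩
        rcases hy with hy | hy <;> rw [hy]
        · exact ⟨k⁻¹, inv_mem hk, Or.inl rfl⟩
        · obtain ⟨k', hk', e⟩ := hswap k⁻¹ (inv_mem hk)
          refine ⟨k' * (x * x)⁻¹, mul_mem hk' (inv_mem (h.le hx2)), Or.inr ?_⟩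
          rw [show x * (k' * (x * x)⁻¹) = (x * k') * (x * x)⁻¹ by group, ← e]
          group }
  have hKK' : K ≤ K' := fun k hk => ⟨k, hk, Or.inl rfl⟩
  have hxK' : x ∈ K' := ⟨1, one_mem K, Or.inr (mul_one x).symm⟩
  refine ⟨K', ⟨h.le.trans hKK', ?_, ?_⟩, hxK', hKK', fun y hy => hy, ?_⟩
  · rintro y ⟨k, hk, hy⟩ n hn
    rcases hy with hy | hy <;> rw [hy]
    · exact h.cen _ hk n hn
    · rw [mul_assoc, h.cen k hk n hn, ← mul_assoc, hxN n hn, mul_assoc]
  · rintro y ⟨k, hk, hy⟩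
    rcases hy with hy | hy <;> rw [hy]
    · exact h.sq _ hk
    · have h2 : k * x * k⁻¹ * x⁻¹ ∈ N := (hxK k hk).symm
      have e : x * k * (x * k) = x * (k * x * k⁻¹ * x⁻¹) * x⁻¹ * (x * x) * (k * k) := by group
      rw [e, hxN _ h2, mul_inv_cancel_right]
      exact mul_mem (mul_mem h2 hx2) (h.sq k hk)
  · let f : Bool × ↥K → ↥K' := fun p => ⟨(if p.1 then x else 1) * p.2, by
      rcases p with ⟨b, k⟩
      cases b
      · exact ⟨k, k.2, Or.inl (by simp)⟩
      · exact ⟨k, k.2, Or.inr (by simp)⟩⟩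
    have hf : Function.Injective f := by
      rintro ⟨b, k⟩ ⟨b', k'⟩ e
      have e' := congrArg Subtype.val e
      cases b <;> cases b' <;> simp [f] at e'
      · exact Prod.ext rfl e'
      · exact absurd (show x ∈ K by
          rw [show x = (k : Y) * (k' : Y)⁻¹ by rw [e']; group]; exact mul_mem k.2 (inv_mem k'.2)) hx
      · exact absurd (show x ∈ K by
          rw [show x = (k' : Y) * (k : Y)⁻¹ by rw [← e']; group]; exact mul_mem k'.2 (inv_mem k.2)) hx
      · exact Prod.ext rfl e'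
    have := Nat.card_le_card_of_injective f hf
    simpa [Nat.card_prod] using this

theorem mem_sup_cases {G : Type*} [Group G] {A B : Subgroup G} {C : G → Prop} {x : G} (hx : x ∈ A ⊔ B)
    (hA : ∀ a ∈ A, C a) (hB : ∀ b ∈ B, C b) (h1 : C 1) (hm : ∀ a b, C a → C b → C (a * b))
    (hi : ∀ a, C a → C a⁻¹) : C x := by
  rw [sup_eq_closure] at hx
  induction hx using closure_induction with
  | mem y hy => exact hy.elim (hA y) (hB y)
  | one => exact h1
  | mul a b _ _ ha hb => exact hm a b ha hb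
  | inv a _ ha => exact hi a ha

/-- The section of rank five. -/
theorem rank_five [Finite Y] (h4 : Cfsg.SectionalPRankLE 2 4 Y) (V : Subgroup Y) [V.Normal]
    (hc : ∀ v ∈ V, ∀ w ∈ V, v * w = w * v) (he : ∀ v ∈ V, v * v = 1) (h16 : Nat.card V = 16) (a b u : Y)
    (ha2 : a * a ∈ V) (hb2 : b * b ∈ V) (hu2 : u * u ∈ V) (hab : CommMod V a b) (hau : CommMod V a u)
    (hbu : CommMod V b u) (ha : a ∉ V) (hb : b ∉ V) (hab' : a * b ∉ V) (hu : u ∉ V) (hu_a : a * u ∉ V)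
    (hu_b : b * u ∉ V) (hu_ab : a * b * u ∉ V) (hfa : Nat.card ↥(V ⊓ centralizer {a}) = 4)
    (hfb : Nat.card ↥(V ⊓ centralizer {b}) = 4)
    (hfab : Nat.card ↥(V ⊓ centralizer {a} ⊓ centralizer {b}) = 2) : False := by
  have hinv : ∀ v ∈ V, v⁻¹ = v := fun v hv => inv_eq_of_mul_eq_one_right (he v hv)
  have hconj : ∀ (x : Y) (v : Y), v ∈ V → x * v * x⁻¹ ∈ V := fun x v hv => ‹V.Normal›.conj_mem v hv x
  -- the commutator maps
  let D : Y → (↥V →* ↥V) := fun x =>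
    { toFun := fun v => ⟨x * v * x⁻¹ * v, mul_mem (hconj x v v.2) v.2⟩
      map_one' := Subtype.ext (by simp)
      map_mul' := fun v w => Subtype.ext (by
        show x * (v * w : Y) * x⁻¹ * (v * w) = x * v * x⁻¹ * v * (x * w * x⁻¹ * w)
        rw [show x * ((v : Y) * w) * x⁻¹ * (v * w) = x * v * x⁻¹ * ((x * w * x⁻¹) * v) * w by group,
          hc _ (hconj x w w.2) _ v.2]
        group) }
  have hD : ∀ (x : Y) (v : ↥V), (D x v : Y) = x * v * x⁻¹ * v := fun x v => rfl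
  have hker : ∀ (x : Y) (v : ↥V), D x v = 1 ↔ x * (v : Y) = v * x := by
    intro x v
    rw [Subtype.ext_iff, hD]
    constructor
    · intro h
      have : x * (v : Y) * x⁻¹ = v := by
        rw [← hinv v v.2]
        exact eq_inv_of_mul_eq_one_left (by rwa [hinv v v.2])
      exact mul_inv_eq_iff_eq_mul.1 this
    · intro h
      rw [h, mul_inv_cancel_right]
      exact he v v.2
  have hcard : ∀ (x : Y), Nat.card (D x).ker = Nat.card ↥(V ⊓ centralizer {x}) := fun x => Nat.card_congr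
    { toFun := fun v => ⟨v.1.1, v.1.2, mem_centralizer_singleton_iff.2 ((hker x v.1).1 v.2).symm⟩
      invFun := fun v => ⟨⟨v.1, v.2.1⟩, (hker x _).2 (mem_centralizer_singleton_iff.1 v.2.2).symm⟩
      left_inv := fun v => rfl
      right_inv := fun v => rfl }
  -- squares and commutators act trivially
  have hVtriv : ∀ y ∈ V, ∀ v ∈ V, y * v * y⁻¹ = v := fun y hy v hv => by rw [hc y hy v hv, mul_inv_cancel_right]
  have hDD : ∀ x : Y, x * x ∈ V → ∀ v : ↥V, D x (D x v) = 1 := by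
    intro x hx v
    refine Subtype.ext ?_
    rw [hD, hD]
    rw [show x * (x * v * x⁻¹ * (v : Y)) * x⁻¹ = (x * x) * v * (x * x)⁻¹ * (x * v * x⁻¹) by group,
      hVtriv _ hx _ v.2, hc _ v.2 _ (hconj x v v.2)]
    exact he _ (mul_mem (hconj x v v.2) v.2)
  have hswap : ∀ x y : Y, CommMod V x y → ∀ v : ↥V, D x (D y v) = D y (D x v) := by
    intro x y hxy v
    have e1 : x * (y * v * y⁻¹) * x⁻¹ = y * (x * v * x⁻¹) * y⁻¹ := by
      have h2 := hVtriv _ hxy _ (hconj (y * x) _ v.2)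
      rw [show y * (x * v * x⁻¹) * y⁻¹ = y * x * v * (y * x)⁻¹ by group, ← h2]
      group
    refine Subtype.ext ?_
    simp only [hD]
    rw [show x * (y * v * y⁻¹ * (v : Y)) * x⁻¹ * (y * v * y⁻¹ * v) =
        x * (y * v * y⁻¹) * x⁻¹ * ((x * v * x⁻¹) * (y * v * y⁻¹)) * v by group,
      show y * (x * v * x⁻¹ * (v : Y)) * y⁻¹ * (x * v * x⁻¹ * v) =
        y * (x * v * x⁻¹) * y⁻¹ * ((y * v * y⁻¹) * (x * v * x⁻¹)) * v by group,
      e1, hc _ (hconj x v v.2) _ (hconj y v v.2)]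
  -- image of a commutator map equals its kernel
  have himg : ∀ x : Y, x * x ∈ V → Nat.card ↥(V ⊓ centralizer {x}) = 4 →
      Nat.card (D x).range = 4 ∧ (D x).range = (D x).ker := by
    intro x hx hf
    have h1 := (D x).ker.card_eq_card_quotient_mul_card_subgroup
    rw [Nat.card_congr (QuotientGroup.quotientKerEquivRange (D x)).toEquiv, h16, hcard, hf] at h1
    have h2 : Nat.card (D x).range = 4 := by omega
    refine ⟨h2, eq_of_le_of_card_ge ?_ (by rw [hcard, hf, h2])⟩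
    rintro _ ⟨v, rfl⟩
    exact hDD x hx v
  obtain ⟨hra, hka⟩ := himg a ha2 hfa
  obtain ⟨hrb, hkb⟩ := himg b hb2 hfb
  have hpre : ∀ w : ↥V, D a w = 1 → ∃ v, D a v = w := fun w hw => by
    have : w ∈ (D a).range := by rw [hka]; exact hw
    exact this
  set Z := V ⊓ centralizer {a} ⊓ centralizer {b} with hZ
  have hmemZ : ∀ w : ↥V, D a w = 1 → D b w = 1 → (w : Y) ∈ Z := fun w h1 h2 =>
    ⟨⟨w.2, mem_centralizer_singleton_iff.2 ((hker a w).1 h1).symm⟩,
      mem_centralizer_singleton_iff.2 ((hker b w).1 h2).symm⟩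
  have hZV : Z ≤ V := inf_le_left.trans inf_le_left
  -- normalise the lifts
  obtain ⟨v₁, hv₁⟩ := hpre ⟨a * a, ha2⟩ ((hker _ _).2 (mul_assoc a a a).symm)
  set a' := (v₁ : Y) * a with ha'
  have hDv : ∀ (x : Y) (v : ↥V), x * (v : Y) * x⁻¹ = (D x v : Y) * v := fun x v => by
    rw [hD, mul_assoc _ (v : Y) (v : Y), he _ v.2, mul_one]
  have haa : a' * a' = 1 := by
    rw [ha', show (v₁ : Y) * a * (v₁ * a) = v₁ * (a * v₁ * a⁻¹) * (a * a) by group, hDv, hv₁]
    show (v₁ : Y) * (a * a * v₁) * (a * a) = 1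
    rw [hc _ ha2 _ v₁.2, ← mul_assoc (v₁ : Y) v₁ (a * a), he _ v₁.2, one_mul]
    exact he _ ha2
  have hact : ∀ (v : ↥V) (w : Y), w ∈ V → (v : Y) * a * w * ((v : Y) * a)⁻¹ = a * w * a⁻¹ := fun v w hw => by
    rw [show (v : Y) * a * w * ((v : Y) * a)⁻¹ = v * (a * w * a⁻¹) * (v : Y)⁻¹ by group,
      hVtriv _ v.2 _ (hconj a w hw)]
  have ha'V : ∀ x, CommMod V a x → a' * x * a'⁻¹ * x⁻¹ ∈ V := fun x hx => by
    rw [show a' * x * a'⁻¹ * x⁻¹ = v₁ * ((a * x * a⁻¹ * x⁻¹) * (x * (v₁ : Y)⁻¹ * x⁻¹)) by rw [ha']; group]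
    exact mul_mem v₁.2 (mul_mem hx (hconj x _ (inv_mem v₁.2)))
  -- adjust an element to commute with `a'`
  have adjust : ∀ x, CommMod V a x → ∃ v : ↥V, a' * ((v : Y) * x) = (v : Y) * x * a' := by
    intro x hx
    have hw := ha'V x hx
    set w := a' * x * a'⁻¹ * x⁻¹ with hwdef
    have hax : a' * x * a'⁻¹ = w * x := by rw [hwdef]; group
    have hfix : a * w * a⁻¹ = w := by
      have h1 : a' * (a' * x * a'⁻¹) * a'⁻¹ = x := by
        rw [show a' * (a' * x * a'⁻¹) * a'⁻¹ = (a' * a') * x * (a' * a')⁻¹ by group, haa]; simp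
      rw [hax, show a' * (w * x) * a'⁻¹ = a' * w * a'⁻¹ * (a' * x * a'⁻¹) by group, hax, hact _ _ hw,
        ← mul_assoc, mul_eq_right] at h1
      rw [← hinv w hw]
      exact eq_inv_of_mul_eq_one_left (by rwa [hinv w hw])
    obtain ⟨v, hv⟩ := hpre ⟨w, hw⟩ ((hker _ _).2 (mul_inv_eq_iff_eq_mul.1 hfix))
    refine ⟨v, mul_inv_eq_iff_eq_mul.1 ?_⟩
    rw [show a' * ((v : Y) * x) * a'⁻¹ = a' * v * a'⁻¹ * (a' * x * a'⁻¹) by group, hact _ _ v.2, hDv, hv, hax]
    show w * (v : Y) * (w * x) = v * x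
    rw [show w * (v : Y) * (w * x) = w * ((v : Y) * w) * x by group, hc _ v.2 _ hw, ← mul_assoc w, he _ hw, one_mul]
  obtain ⟨v₂, hv₂⟩ := adjust b hab
  obtain ⟨v₃, hv₃⟩ := adjust u hau
  set b' := (v₂ : Y) * b with hb'
  set u' := (v₃ : Y) * u with hu'
  have hDb : ∀ w ∈ V, b' * w * b'⁻¹ = b * w * b⁻¹ := fun w hw => by
    rw [hb', show (v₂ : Y) * b * w * ((v₂ : Y) * b)⁻¹ = v₂ * (b * w * b⁻¹) * (v₂ : Y)⁻¹ by group,
      hVtriv _ v₂.2 _ (hconj b w hw)]
  have toZ : ∀ w ∈ V, a' * w = w * a' → b' * w = w * b' → w ∈ Z := fun w hw h1 h2 =>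
    hmemZ ⟨w, hw⟩ ((hker _ _).2 (mul_inv_eq_iff_eq_mul.1 (by
        rw [← hact v₁ w hw]; exact mul_inv_eq_iff_eq_mul.2 h1)))
      ((hker _ _).2 (mul_inv_eq_iff_eq_mul.1 (by rw [← hDb w hw]; exact mul_inv_eq_iff_eq_mul.2 h2)))
  have hbb : b' * b' ∈ Z := by
    refine toZ _ ?_ ?_ (mul_assoc b' b' b').symm
    · rw [hb', show (v₂ : Y) * b * (v₂ * b) = v₂ * (b * v₂ * b⁻¹) * (b * b) by group]
      exact mul_mem (mul_mem v₂.2 (hconj b _ v₂.2)) hb2
    · rw [← mul_assoc, hv₂, mul_assoc, hv₂, ← mul_assoc]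
  -- `Z` has order two and is centralised by `u`
  have huZ : ∀ n ∈ Z, u * n = n * u := by
    intro n hn
    obtain ⟨⟨hnV, hna⟩, hnb⟩ := hn
    rcases eq_or_ne n 1 with rfl | hn1
    · simp
    have hmem : u * n * u⁻¹ ∈ Z := by
      have t1 : ∀ x, CommMod V x u → x * n = n * x → D x ⟨u * n * u⁻¹, hconj u n hnV⟩ = 1 := by
        intro x hxu hx
        have h := hswap x u hxu ⟨n, hnV⟩
        rw [(hker x ⟨n, hnV⟩).2 hx, map_one] at h
        have e : (⟨u * n * u⁻¹, hconj u n hnV⟩ : ↥V) = D u ⟨n, hnV⟩ * ⟨n, hnV⟩ := Subtype.ext (hDv u ⟨n, hnV⟩)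
        rw [e, map_mul, h, (hker x ⟨n, hnV⟩).2 hx, one_mul]
      exact hmemZ ⟨_, hconj u n hnV⟩ (t1 a hau (mem_centralizer_singleton_iff.1 hna).symm)
        (t1 b hbu (mem_centralizer_singleton_iff.1 hnb).symm)
    by_contra hne
    classical
    have h3 : ({1, n, u * n * u⁻¹} : Finset Y).card ≤ Nat.card Z := by
      rw [← Nat.card_eq_finsetCard]
      refine Nat.card_le_card_of_injective
        (fun x => (⟨x.1, ?_⟩ : ↥Z)) fun x y e => Subtype.ext (congrArg Subtype.val e :)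
      have := x.2
      simp only [Finset.mem_insert, Finset.mem_singleton] at this
      rcases this with h | h | h <;> rw [h]
      · exact one_mem Z
      · exact ⟨⟨hnV, hna⟩, hnb⟩
      · exact hmem
    rw [hfab] at h3
    rw [Finset.card_eq_three.2 ⟨1, n, u * n * u⁻¹, hn1.symm, fun e => hn1 ?_, fun e => hne ?_, rfl⟩] at h3
    · omega
    · exact conj_eq_one_iff.1 e.symm
    · exact (mul_inv_eq_iff_eq_mul.1 e.symm)
  have hu'act : ∀ w ∈ V, u' * w * u'⁻¹ = u * w * u⁻¹ := fun w hw => by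
    rw [hu', show (v₃ : Y) * u * w * ((v₃ : Y) * u)⁻¹ = v₃ * (u * w * u⁻¹) * (v₃ : Y)⁻¹ by group,
      hVtriv _ v₃.2 _ (hconj u w hw)]
  have cA : ∀ n ∈ Z, a' * n = n * a' := fun n hn => by
    refine mul_inv_eq_iff_eq_mul.1 ?_
    rw [ha', hact _ _ (hZV hn)]
    exact mul_inv_eq_iff_eq_mul.2 (mem_centralizer_singleton_iff.1 hn.1.2).symm
  have cB : ∀ n ∈ Z, b' * n = n * b' := fun n hn => by
    refine mul_inv_eq_iff_eq_mul.1 ?_
    rw [hDb _ (hZV hn)]
    exact mul_inv_eq_iff_eq_mul.2 (mem_centralizer_singleton_iff.1 hn.2).symm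
  have cU : ∀ n ∈ Z, u' * n = n * u' := fun n hn => by
    refine mul_inv_eq_iff_eq_mul.1 ?_
    rw [hu'act _ (hZV hn)]
    exact mul_inv_eq_iff_eq_mul.2 (huZ n hn)
  have hbu' : b' * u' * b'⁻¹ * u'⁻¹ ∈ Z := by
    set w := b' * u' * b'⁻¹ * u'⁻¹ with hw
    have hwV : w ∈ V := by
      rw [hw, show b' * u' * b'⁻¹ * u'⁻¹ =
        v₂ * (b * v₃ * b⁻¹) * (b * u * b⁻¹ * u⁻¹) * (u * (v₂ : Y)⁻¹ * u⁻¹) * (v₃ : Y)⁻¹ by rw [hb', hu']; group]
      exact mul_mem (mul_mem (mul_mem (mul_mem v₂.2 (hconj _ _ v₃.2)) hbu) (hconj _ _ (inv_mem v₂.2))) (inv_mem v₃.2)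
    have hA : Commute a' b' := hv₂
    have hA' : Commute a' u' := hv₃
    have hwa : Commute a' w := ((hA.mul_right hA').mul_right hA.inv_right).mul_right hA'.inv_right
    refine toZ w hwV hwa.eq ?_
    have h1 : b' * b' * u' * (b' * b')⁻¹ = u' := by
      rw [← cU _ hbb, mul_inv_cancel_right]
    have h2 : b' * (b' * u' * b'⁻¹) * b'⁻¹ = u' := by
      rw [show b' * (b' * u' * b'⁻¹) * b'⁻¹ = b' * b' * u' * (b' * b')⁻¹ by group]; exact h1
    rw [show b' * u' * b'⁻¹ = w * u' by rw [hw]; group,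
      show b' * (w * u') * b'⁻¹ = b' * w * b'⁻¹ * (b' * u' * b'⁻¹) by group,
      show b' * u' * b'⁻¹ = w * u' by rw [hw]; group, ← mul_assoc, mul_eq_right] at h2
    refine mul_inv_eq_iff_eq_mul.1 ?_
    rw [← hinv w hwV]
    exact eq_inv_of_mul_eq_one_left (by rwa [hinv w hwV])
  have huu : u' * u' ∈ Z := by
    refine toZ _ ?_ ?_ ?_
    · rw [hu', show (v₃ : Y) * u * (v₃ * u) = v₃ * (u * v₃ * u⁻¹) * (u * u) by group]
      exact mul_mem (mul_mem v₃.2 (hconj u _ v₃.2)) hu2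
    · rw [← mul_assoc, hv₃, mul_assoc, hv₃, ← mul_assoc]
    · refine mul_inv_eq_iff_eq_mul.1 ?_
      set w := b' * u' * b'⁻¹ * u'⁻¹ with hw
      rw [show b' * (u' * u') * b'⁻¹ = w * (u' * w) * u' by rw [hw]; group, cU _ hbu', ← mul_assoc w w u',
        he _ (hZV hbu'), one_mul]
  -- the layer `J`
  set J₀ := (D a).range ⊔ (D b).range with hJ₀
  have hZa : ∀ w : ↥V, (w : Y) ∈ Z → D a w = 1 ∧ D b w = 1 := fun w hw =>
    ⟨(hker _ _).2 (mem_centralizer_singleton_iff.1 hw.1.2).symm, (hker _ _).2 (mem_centralizer_singleton_iff.1 hw.2).symm⟩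
  have hJimg : ∀ j ∈ J₀, ((D a j : ↥V) : Y) ∈ Z ∧ ((D b j : ↥V) : Y) ∈ Z := by
    intro j hj
    refine mem_sup_cases (C := fun j => ((D a j : ↥V) : Y) ∈ Z ∧ ((D b j : ↥V) : Y) ∈ Z) hj ?_ ?_
      (by simp [one_mem Z]) (fun x y hx hy => ⟨by rw [map_mul]; exact mul_mem hx.1 hy.1, by rw [map_mul]; exact mul_mem hx.2 hy.2⟩)
      (fun x hx => ⟨by rw [map_inv]; exact inv_mem hx.1, by rw [map_inv]; exact inv_mem hx.2⟩)
    · rintro _ ⟨v, rfl⟩
      refine ⟨by rw [hDD a ha2]; exact one_mem Z, hmemZ _ ?_ (hDD b hb2 _)⟩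
      rw [← hswap a b hab, hDD a ha2]
    · rintro _ ⟨v, rfl⟩
      refine ⟨hmemZ _ (hDD a ha2 _) ?_, by rw [hDD b hb2]; exact one_mem Z⟩
      rw [← hswap a b hab, hDD b hb2, map_one]
  have hJne : J₀ ≠ ⊤ := by
    intro e
    have : Nat.card (D a).range ≤ Nat.card ↥Z := by
      refine Nat.card_le_card_of_injective (fun x => (⟨(x.1 : Y), ?_⟩ : ↥Z))
        fun x y h => Subtype.ext (Subtype.ext (congrArg Subtype.val h :))
      obtain ⟨v, hv⟩ := x.2
      rw [← hv]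
      exact (hJimg v (e ▸ mem_top v)).1
    rw [hra, hfab] at this
    omega
  have hJ8 : Nat.card J₀ = 8 := by
    have hle : Nat.card (D a).range ≤ Nat.card J₀ := Nat.card_le_card_of_injective _ (inclusion_injective le_sup_left)
    obtain ⟨i, -, hi⟩ := (Nat.dvd_prime_pow Nat.prime_two).1 (show Nat.card J₀ ∣ 2 ^ 4 by
      rw [show 2 ^ 4 = Nat.card ↥V by rw [h16]; rfl]; exact J₀.card_subgroup_dvd_card)
    have h16' : Nat.card J₀ ≠ 16 := fun e => hJne (eq_top_of_card_eq _ (e.trans h16.symm))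
    have h4' : Nat.card J₀ ≠ 4 := by
      intro e
      have e1 : (D a).range = J₀ := eq_of_le_of_card_ge le_sup_left (by rw [e, hra])
      have e2 : (D b).range = J₀ := eq_of_le_of_card_ge le_sup_right (by rw [e, hrb])
      have : Nat.card (D a).range ≤ Nat.card ↥Z := by
        refine Nat.card_le_card_of_injective (fun x => (⟨(x.1 : Y), ?_⟩ : ↥Z))
          fun x y h => Subtype.ext (Subtype.ext (congrArg Subtype.val h :))
        refine hmemZ x.1 (MonoidHom.mem_ker.1 (hka ▸ x.2)) (MonoidHom.mem_ker.1 ?_)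
        rw [← hkb, e2, ← e1]
        exact x.2
      rw [hra, hfab] at this
      omega
    rw [hi] at h16' h4' hle ⊢
    rw [hra] at hle
    have hi4 : i ≤ 4 := by
      by_contra hlt
      have := Nat.le_of_dvd (by norm_num) (hi ▸ h16 ▸ J₀.card_subgroup_dvd_card)
      have : 2 ^ 5 ≤ 2 ^ i := Nat.pow_le_pow_right (by norm_num) (by omega)
      omega
    interval_cases i <;> omega
  have hju : ∀ j ∈ J₀, ((D u j : ↥V) : Y) ∈ Z := by
    have hinvJ : ∀ j ∈ J₀, D u j ∈ J₀ := by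
      intro j hj
      refine mem_sup_cases (C := fun j => D u j ∈ J₀) hj ?_ ?_ (by simp [one_mem])
        (fun x y hx hy => by rw [map_mul]; exact mul_mem hx hy) (fun x hx => by rw [map_inv]; exact inv_mem hx)
      · rintro _ ⟨v, rfl⟩
        rw [← hswap a u hau]
        exact mem_sup_left ⟨_, rfl⟩
      · rintro _ ⟨v, rfl⟩
        rw [← hswap b u hbu]
        exact mem_sup_right ⟨_, rfl⟩
    have hall : ∀ v : ↥V, D u v ∈ J₀ := by
      intro v
      by_cases hv : v ∈ J₀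
      · exact hinvJ v hv
      have hidx : J₀.index = 2 := by
        have := J₀.card_mul_index
        rw [hJ8, h16] at this
        omega
      let σv : ↥V := ⟨u * v * u⁻¹, hconj u v v.2⟩
      have hσ : σv ∉ J₀ := fun hm => hv (by
        have h1 := hinvJ σv hm
        have h2 : D u σv = D u v := by
          have hmul : σv = D u v * v := Subtype.ext (hDv u v)
          rw [hmul, map_mul, hDD u hu2, one_mul]
        rw [h2] at h1
        have hmul : v = (D u v)⁻¹ * σv := by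
          rw [show σv = D u v * v from Subtype.ext (hDv u v), inv_mul_cancel_left]
        rw [hmul]
        exact mul_mem (inv_mem h1) hm)
      rw [show D u v = σv * v from Subtype.ext rfl]
      exact (mul_mem_iff_of_index_two hidx).2 (iff_of_false hσ hv)
    intro j hj
    refine mem_sup_cases (C := fun j => ((D u j : ↥V) : Y) ∈ Z) hj ?_ ?_ (by simp [one_mem Z])
      (fun x y hx hy => by rw [map_mul]; exact mul_mem hx hy) (fun x hx => by rw [map_inv]; exact inv_mem hx)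
    · rintro _ ⟨v, rfl⟩
      rw [← hswap a u hau]
      exact (hJimg _ (hall v)).1
    · rintro _ ⟨v, rfl⟩
      rw [← hswap b u hbu]
      exact (hJimg _ (hall v)).2
  let J := J₀.map V.subtype
  have hJV : J ≤ V := by rintro _ ⟨w, -, rfl⟩; exact w.2
  have hJc : Nat.card J = 8 := by rw [← hJ8]; exact card_map_of_injective V.subtype_injective
  have hZJ : Z ≤ J := by
    intro n hn
    refine ⟨⟨n, hZV hn⟩, mem_sup_left ?_, rfl⟩
    rw [hka]
    exact (hZa ⟨n, hZV hn⟩ hn).1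
  have hcm : ∀ (x y : Y), (∀ w ∈ V, x * w * x⁻¹ = y * w * y⁻¹) → (∀ w ∈ J₀, ((D y w : ↥V) : Y) ∈ Z) →
      ∀ k ∈ J, CommMod Z x k := by
    rintro x y hxy hy _ ⟨w, hw, rfl⟩
    show x * (w : Y) * x⁻¹ * (w : Y)⁻¹ ∈ Z
    rw [hxy _ w.2, hinv _ w.2]
    exact hy w hw
  have E0 : Elem Z J := ⟨hZJ, fun k hk n hn => hc _ (hJV hk) _ (hZV hn),
    fun k hk => by rw [he _ (hJV hk)]; exact one_mem Z⟩
  have hnot : ∀ {v : ↥V} {x : Y}, x ∉ V → (v : Y) * x ∉ V := fun {v x} hx h => hx (by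
    have := mul_mem (inv_mem v.2) h
    rwa [inv_mul_cancel_left] at this)
  obtain ⟨K₁, E1, ha₁, hJ₁, hd₁, hc₁⟩ := E0.extend cA (by rw [haa]; exact one_mem Z)
    (hcm a' a (fun w hw => hact v₁ w hw) fun w hw => (hJimg w hw).1) (fun h => hnot ha (hJV h))
  have hbK₁ : ∀ k ∈ K₁, CommMod Z b' k := by
    intro k hk
    obtain ⟨j, hj, hk' | hk'⟩ := hd₁ k hk <;> rw [hk']
    · exact hcm b' b hDb (fun w hw => (hJimg w hw).2) _ hj
    · refine CommMod.mul cA ?_ (hcm b' b hDb (fun w hw => (hJimg w hw).2) _ hj)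
      show b' * a' * b'⁻¹ * a'⁻¹ ∈ Z
      rw [← hv₂, mul_inv_cancel_right, mul_inv_cancel]
      exact one_mem Z
  have hbn : b' ∉ K₁ := by
    intro h
    obtain ⟨j, hj, e | e⟩ := hd₁ _ h
    · exact hnot hb (hb' ▸ e ▸ hJV hj)
    · have hrel : a * b ∈ V := by
        have h1 : a * b = (a * a) * (a⁻¹ * (v₂ : Y)⁻¹ * v₁ * a) * j := by
          rw [show b = (v₂ : Y)⁻¹ * b' by rw [hb']; group, e, ha']
          group
        rw [h1]
        refine mul_mem (mul_mem ha2 ?_) (hJV hj)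
        have := hconj a⁻¹ _ (mul_mem (inv_mem v₂.2) v₁.2)
        simpa [mul_assoc] using this
      exact hab' hrel
  obtain ⟨K₂, E2, hb₂, hK₂, hd₂, hc₂⟩ := E1.extend cB hbb hbK₁ hbn
  have huK₂ : ∀ k ∈ K₂, CommMod Z u' k := by
    have h1 : ∀ k ∈ K₁, CommMod Z u' k := by
      intro k hk
      obtain ⟨j, hj, hk' | hk'⟩ := hd₁ k hk <;> rw [hk']
      · exact hcm u' u hu'act hju _ hj
      · refine CommMod.mul cA ?_ (hcm u' u hu'act hju _ hj)
        show u' * a' * u'⁻¹ * a'⁻¹ ∈ Z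
        rw [← hv₃, mul_inv_cancel_right, mul_inv_cancel]
        exact one_mem Z
    intro k hk
    obtain ⟨l, hl, hk' | hk'⟩ := hd₂ k hk <;> rw [hk']
    · exact h1 _ hl
    · exact CommMod.mul cB (CommMod.symm hbu') (h1 _ hl)
  have hun : u' ∉ K₂ := by
    intro h
    have key : ∀ k ∈ K₂, k ∈ V ∨ a * k ∈ V ∨ b * k ∈ V ∨ a * b * k ∈ V := by
      intro k hk
      have hA : ∀ l ∈ K₁, l ∈ V ∨ a * l ∈ V := by
        intro l hl
        obtain ⟨j, hj, hl' | hl'⟩ := hd₁ l hl <;> rw [hl']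
        · exact Or.inl (hJV hj)
        · refine Or.inr ?_
          rw [ha', show a * ((v₁ : Y) * a * j) = a * v₁ * a⁻¹ * (a * a) * j by group]
          exact mul_mem (mul_mem (hconj a _ v₁.2) ha2) (hJV hj)
      obtain ⟨l, hl, hk' | hk'⟩ := hd₂ k hk <;> rw [hk']
      · rcases hA _ hl with h | h
        exacts [Or.inl h, Or.inr (Or.inl h)]
      · rcases hA _ hl with h | h
        · refine Or.inr (Or.inr (Or.inl ?_))
          rw [hb', show b * ((v₂ : Y) * b * l) = b * v₂ * b⁻¹ * (b * b) * l by group]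
          exact mul_mem (mul_mem (hconj b _ v₂.2) hb2) h
        · refine Or.inr (Or.inr (Or.inr ?_))
          rw [hb', show a * b * ((v₂ : Y) * b * l) = (a * (b * v₂ * b⁻¹) * a⁻¹) * (a * (b * b) * a⁻¹) * (a * l) by group]
          exact mul_mem (mul_mem (hconj a _ (hconj b _ v₂.2)) (hconj a _ hb2)) h
    rcases key _ h with h' | h' | h' | h'
    · exact hnot hu h'
    · rw [hu', show a * ((v₃ : Y) * u) = (a * v₃ * a⁻¹) * (a * u) by group] at h'
      exact hnot (v := ⟨_, hconj a _ v₃.2⟩) hu_a h'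
    · rw [hu', show b * ((v₃ : Y) * u) = (b * v₃ * b⁻¹) * (b * u) by group] at h'
      exact hnot (v := ⟨_, hconj b _ v₃.2⟩) hu_b h'
    · rw [hu', show a * b * ((v₃ : Y) * u) = ((a * b) * v₃ * (a * b)⁻¹) * (a * b * u) by group] at h'
      exact hnot (v := ⟨_, hconj (a * b) _ v₃.2⟩) hu_ab h'
  obtain ⟨K₃, E3, -, -, -, hc₃⟩ := E2.extend cU huu huK₂ hun
  have := rank_bound h4 K₃ Z E3.le (fun k hk n hn => by rw [E3.cen k hk n hn, mul_inv_cancel_right]; exact hn) E3.sq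
  rw [hfab] at this
  omega

end Cfsg.Agent.SecFour
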