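import Mathlib

/-!
In any faithful action of the symmetric group of degree six on an elementary abelian group of order sixteen some
four-group acts freely and is centralised by a further involution.
-/

set_option autoImplicit false
set_option linter.unusedSectionVars false
set_option linter.style.haveILetI false
set_option maxHeartbeats 400000

namespace Cfsg.Agent.SecFour

open Equiv

variable {V : Type*} [CommGroup V] [Finite V]

/-- the fixed subgroup -/
def fixS (φ : MulAut V) : Subgroup V := MonoidHom.eqLocus φ.toMonoidHom (MonoidHom.id V)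

theorem mem_fixS {φ : MulAut V} {v : V} : v ∈ fixS φ ↔ φ v = v := Iff.rfl

/-- an automorphism of order dividing five fixes as many elements of an invariant set as there are, modulo five -/
theorem fix_mod (φ : MulAut V) (h5 : φ ^ 5 = 1) (W : Subgroup V) (hW : ∀ v ∈ W, φ v ∈ W) :
    Nat.card ↥(W ⊓ fixS φ) ≡ Nat.card W [MOD 5] := by
  haveI : Fact (Nat.Prime 5) := ⟨by norm_num⟩
  classical
  let e : Perm ↥W := Equiv.ofBijective (fun v => ⟨φ v.1, hW v v.2⟩)
    (Finite.injective_iff_bijective.1 fun v w h => Subtype.ext (φ.injective (congrArg Subtype.val h)))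
  have hpow : ∀ (i : ℕ) (v : ↥W), ((e ^ i) v : V) = (φ ^ i) v := by
    intro i
    induction i with
    | zero => intro v; rfl
    | succ i ih =>
      intro v
      rw [pow_succ', pow_succ', Perm.mul_apply, MulAut.mul_apply, ← ih v]
      rfl
  have he5 : e ^ 5 = 1 := Equiv.ext fun v => Subtype.ext (by rw [hpow, h5]; rfl)
  have hpg : IsPGroup 5 ↥(Subgroup.zpowers e) := by
    rintro ⟨a, n, rfl⟩
    refine ⟨1, Subtype.ext ?_⟩
    show (e ^ n) ^ 5 ^ 1 = 1
    rw [pow_one, ← zpow_natCast, ← zpow_mul, mul_comm, zpow_mul, zpow_natCast, he5, one_zpow]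
  refine Nat.ModEq.trans ?_ (hpg.card_modEq_card_fixedPoints ↥W).symm
  refine congrArg (· % 5) (Nat.card_congr
    { toFun := fun v => ⟨⟨v.1, v.2.1⟩, ?_⟩
      invFun := fun v => ⟨v.1.1, v.1.2, ?_⟩
      left_inv := fun v => rfl
      right_inv := fun v => rfl })
  · have hfix : e ⟨v.1, v.2.1⟩ = ⟨v.1, v.2.1⟩ := Subtype.ext v.2.2
    rintro ⟨a, ha⟩
    obtain ⟨n, rfl⟩ := Subgroup.mem_zpowers_iff.1 ha
    exact Perm.zpow_apply_eq_self_of_apply_eq_self hfix n
  · exact congrArg Subtype.val (v.2 ⟨e, Subgroup.mem_zpowers e⟩)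

variable (h16 : Nat.card V = 16) (h2 : ∀ v : V, v * v = 1) (σ : Perm (Fin 6) →* MulAut V)
  (h5 : ∀ c : Perm (Fin 6), c ^ 5 = 1 → c ≠ 1 → σ c ≠ 1)

include h16 h5 in
theorem five_fix {c : Perm (Fin 6)} (hc : c ^ 5 = 1) (hc1 : c ≠ 1) : fixS (σ c) = ⊥ := by
  have hm := fix_mod (σ c) (by rw [← map_pow, hc, map_one]) ⊤ (fun v _ => Subgroup.mem_top _)
  rw [top_inf_eq, Subgroup.card_top, h16] at hm
  obtain ⟨i, hi4, hi⟩ := (Nat.dvd_prime_pow Nat.prime_two).1 (show Nat.card ↥(fixS (σ c)) ∣ 2 ^ 4 by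
    rw [show 2 ^ 4 = Nat.card V by rw [h16]; rfl]; exact (fixS (σ c)).card_subgroup_dvd_card)
  rw [hi] at hm
  have hi' : i = 0 ∨ i = 4 := by
    unfold Nat.ModEq at hm
    interval_cases i <;> omega
  rcases hi' with rfl | rfl
  · exact Subgroup.eq_bot_of_card_eq _ hi
  · exfalso
    refine h5 c hc hc1 (MulEquiv.ext fun v => ?_)
    have : v ∈ fixS (σ c) := by rw [Subgroup.eq_top_of_card_eq _ (hi.trans h16.symm)]; exact Subgroup.mem_top v
    exact this

include h16 h2 h5 in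
theorem invol_fix {x c k : Perm (Fin 6)} (hx : x * x = 1) (hc : c ^ 5 = 1) (hc1 : c ≠ 1)
    (hk : k * x * k⁻¹ = x * c) : Nat.card ↥(fixS (σ x)) = 4 := by
  let d : V →* V :=
    { toFun := fun v => σ x v * v
      map_one' := by simp
      map_mul' := fun v w => by rw [map_mul]; exact mul_mul_mul_comm _ _ _ _ }
  have hxx : ∀ v, σ x (σ x v) = v := fun v => by
    rw [← MulAut.mul_apply, ← map_mul, hx, map_one]; rfl
  have hinv : ∀ v : V, v⁻¹ = v := fun v => inv_eq_of_mul_eq_one_right (h2 v)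
  have hker : d.ker = fixS (σ x) := by
    ext v
    rw [MonoidHom.mem_ker, mem_fixS]
    show σ x v * v = 1 ↔ _
    rw [mul_eq_one_iff_eq_inv, hinv]
  have hle : d.range ≤ fixS (σ x) := by
    rintro _ ⟨v, rfl⟩
    show σ x (σ x v * v) = σ x v * v
    rw [map_mul, hxx, mul_comm]
  have h1 := d.ker.card_eq_card_quotient_mul_card_subgroup
  rw [Nat.card_congr (QuotientGroup.quotientKerEquivRange d).toEquiv, h16, hker] at h1
  have h3 := Nat.card_le_card_of_injective _ (Subgroup.inclusion_injective hle)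
  -- a conjugate fixed group
  have hbot : fixS (σ x) ⊓ fixS (σ (x * c)) = ⊥ := by
    rw [eq_bot_iff, ← five_fix h16 σ h5 hc hc1]
    rintro v ⟨e1, e2⟩
    have e1' : σ x v = v := e1
    have e2' : σ x (σ c v) = v := by rw [← MulAut.mul_apply, ← map_mul]; exact e2
    exact (σ x).injective (e2'.trans e1'.symm)
  let eq : ↥(fixS (σ x)) ≃ ↥(fixS (σ (x * c))) := Equiv.subtypeEquiv (σ k).toEquiv fun v => by
    show σ x v = v ↔ σ (x * c) (σ k v) = σ k v
    rw [← hk, ← MulAut.mul_apply, ← map_mul, inv_mul_cancel_right, map_mul, MulAut.mul_apply,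
      EmbeddingLike.apply_eq_iff_eq]
  have hprod : Nat.card ↥(fixS (σ x)) * Nat.card ↥(fixS (σ x)) ≤ 16 := by
    conv_lhs => arg 2; rw [Nat.card_congr eq]
    rw [← h16, ← Nat.card_prod]
    refine Nat.card_le_card_of_injective (fun p => (p.1 : V) * p.2) fun p q e => ?_
    change (p.1 : V) * p.2 = q.1 * q.2 at e
    have hm : (q.1 : V)⁻¹ * p.1 ∈ fixS (σ x) ⊓ fixS (σ (x * c)) := by
      refine Subgroup.mem_inf.2 ⟨mul_mem (inv_mem q.1.2) p.1.2, ?_⟩
      rw [show (q.1 : V)⁻¹ * p.1 = q.2 * (p.2 : V)⁻¹ by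
        rw [inv_mul_eq_iff_eq_mul, ← mul_assoc, ← e, mul_inv_cancel_right]]
      exact mul_mem q.2.2 (inv_mem p.2.2)
    rw [hbot, Subgroup.mem_bot, inv_mul_eq_one] at hm
    refine Prod.ext (Subtype.ext hm.symm) (Subtype.ext ?_)
    rwa [← hm, mul_right_inj] at e
  obtain ⟨i, hi4, hi⟩ := (Nat.dvd_prime_pow Nat.prime_two).1 (show Nat.card ↥(fixS (σ x)) ∣ 2 ^ 4 by
    rw [show 2 ^ 4 = Nat.card V by rw [h16]; rfl]; exact (fixS (σ x)).card_subgroup_dvd_card)
  rw [hi] at h1 h3 hprod ⊢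
  interval_cases i <;> omega

include h2 in
theorem pair_fix {x y : Perm (Fin 6)} (hy : y * y = 1) (hxy : x * y = y * x)
    (hfx : Nat.card ↥(fixS (σ x)) = 4) :
    Nat.card ↥(fixS (σ x) ⊓ fixS (σ y)) = 2 ∨ fixS (σ x) ≤ fixS (σ y) := by
  have hinv : ∀ v : V, v⁻¹ = v := fun v => inv_eq_of_mul_eq_one_right (h2 v)
  have hyy : ∀ v, σ y (σ y v) = v := fun v => by
    rw [← MulAut.mul_apply, ← map_mul, hy, map_one]; rfl
  by_cases hle : fixS (σ x) ≤ fixS (σ y)
  · exact Or.inr hle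
  obtain ⟨v, hv, hvy⟩ := SetLike.not_le_iff_exists.1 hle
  have hne : σ y v * v ≠ 1 := fun e => hvy (show σ y v = v by rwa [mul_eq_one_iff_eq_inv, hinv] at e)
  have hmem : σ y v * v ∈ fixS (σ x) ⊓ fixS (σ y) := by
    refine ⟨?_, ?_⟩
    · show σ x (σ y v * v) = σ y v * v
      rw [map_mul, ← MulAut.mul_apply, ← map_mul σ, hxy, map_mul σ, MulAut.mul_apply, show σ x v = v from hv]
    · show σ y (σ y v * v) = σ y v * v
      rw [map_mul, hyy, mul_comm]
  left
  set S := fixS (σ x) ⊓ fixS (σ y)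
  have h1 : Nat.card S ∣ 4 := hfx ▸ Subgroup.card_dvd_of_le inf_le_left
  have h3 : Nat.card S ≠ 4 := fun e => hvy
    ((Subgroup.eq_of_le_of_card_ge (inf_le_left : S ≤ fixS (σ x)) (by rw [e, hfx])).ge hv).2
  have h4 : Nat.card S ≠ 1 := fun e => hne (by
    rw [Subgroup.eq_bot_of_card_eq _ e] at hmem
    exact hmem)
  have h5' : Nat.card S ≤ 4 := Nat.le_of_dvd (by norm_num) h1
  interval_cases hS : Nat.card S <;> omega

include h16 h2 h5 in
theorem free_four : ∃ a b u : Perm (Fin 6), a * a = 1 ∧ b * b = 1 ∧ u * u = 1 ∧ a * b = b * a ∧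
    a * u = u * a ∧ b * u = u * b ∧ a ≠ 1 ∧ b ≠ 1 ∧ a * b ≠ 1 ∧ u ≠ 1 ∧ a * u ≠ 1 ∧ b * u ≠ 1 ∧ a * b * u ≠ 1 ∧
    Nat.card ↥(fixS (σ a)) = 4 ∧ Nat.card ↥(fixS (σ b)) = 4 ∧ Nat.card ↥(fixS (σ a) ⊓ fixS (σ b)) = 2 := by
  let a : Perm (Fin 6) := swap 0 1 * swap 2 3
  let b : Perm (Fin 6) := swap 0 2 * swap 1 3
  let d : Perm (Fin 6) := swap 0 1 * swap 4 5
  let s : Perm (Fin 6) := swap 0 1 * swap 1 2
  let t : Perm (Fin 6) := swap 0 2 * swap 2 4 * (swap 1 3 * swap 3 5)
  let ca : Perm (Fin 6) := swap 4 0 * swap 0 2 * swap 2 3 * swap 3 1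
  let cb : Perm (Fin 6) := swap 0 2 * swap 2 1 * swap 1 4 * swap 4 3
  let cd : Perm (Fin 6) := swap 0 1 * swap 1 4 * swap 4 3 * swap 3 5
  have fa : Nat.card ↥(fixS (σ a)) = 4 :=
    invol_fix h16 h2 σ h5 (c := ca) (k := ca ^ 2) (by decide) (by decide) (by decide) (by decide)
  have fb : Nat.card ↥(fixS (σ b)) = 4 :=
    invol_fix h16 h2 σ h5 (c := cb) (k := cb ^ 2) (by decide) (by decide) (by decide) (by decide)
  have fd : Nat.card ↥(fixS (σ d)) = 4 :=
    invol_fix h16 h2 σ h5 (c := cd) (k := cd ^ 2) (by decide) (by decide) (by decide) (by decide)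
  rcases pair_fix h2 σ (x := a) (y := b) (by decide) (by decide) fa with h | hb
  · exact ⟨a, b, swap 4 5, by decide, by decide, by decide, by decide, by decide, by decide, by decide, by decide,
      by decide, by decide, by decide, by decide, by decide, fa, fb, h⟩
  rcases pair_fix h2 σ (x := a) (y := d) (by decide) (by decide) fa with h | hd
  · exact ⟨a, d, swap 0 1 * swap 2 3 * swap 4 5, by decide, by decide, by decide, by decide, by decide, by decide,
      by decide, by decide, by decide, by decide, by decide, by decide, by decide, fa, fd, h⟩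
  exfalso
  set W := fixS (σ a)
  have hab : W ≤ fixS (σ (a * b)) := fun v hv => by
    show σ (a * b) v = v
    rw [map_mul, MulAut.mul_apply, show σ b v = v from hb hv]
    exact hv
  have had : W ≤ fixS (σ (a * d)) := fun v hv => by
    show σ (a * d) v = v
    rw [map_mul, MulAut.mul_apply, show σ d v = v from hd hv]
    exact hv
  have move : ∀ g : Perm (Fin 6), W ≤ fixS (σ (g⁻¹ * a * g)) → ∀ v ∈ W, σ g v ∈ W := by
    intro g hg v hv
    show σ a (σ g v) = σ g v
    rw [← MulAut.mul_apply, ← map_mul, show a * g = g * (g⁻¹ * a * g) by group, map_mul, MulAut.mul_apply,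
      show σ (g⁻¹ * a * g) v = v from hg hv]
  have hs : ∀ v ∈ W, σ s v ∈ W := move s (by
    rcases (show s⁻¹ * a * s = b ∨ s⁻¹ * a * s = a * b by decide) with e | e <;> rw [e] <;> assumption)
  have ht : ∀ v ∈ W, σ t v ∈ W := move t (by
    rcases (show t⁻¹ * a * t = d ∨ t⁻¹ * a * t = a * d by decide) with e | e <;> rw [e] <;> assumption)
  have hW : ∀ v ∈ W, σ (s * t) v ∈ W := fun v hv => by
    rw [map_mul, MulAut.mul_apply]; exact hs _ (ht v hv)
  have hc : (s * t) ^ 5 = 1 := by decide +kernel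
  have hm := fix_mod (σ (s * t)) (by rw [← map_pow, hc, map_one]) W hW
  rw [five_fix h16 σ h5 hc (by decide), inf_bot_eq, Subgroup.card_bot, fa] at hm
  norm_num [Nat.ModEq] at hm

end Cfsg.Agent.SecFour
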