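import Cfsg.Agent.SecFour.RankFive
import Cfsg.Agent.SecFour.SymSix
import Cfsg.Agent.S3106

/-!
A two-constrained group of sectional rank four has no symmetric group of degree six modulo its 2-core.
-/

set_option autoImplicit false
set_option linter.style.haveILetI false
set_option maxHeartbeats 400000

namespace Cfsg.Agent.SecFour

open Subgroup

variable {X : Type*} [Group X] [Finite X]

theorem center_q8 : ∀ x y : QuaternionGroup 2,
    x * x * y = y * (x * x) ∧ x * y * x⁻¹ * y⁻¹ * x = x * (x * y * x⁻¹ * y⁻¹) := by decide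

theorem center_d8 : ∀ x y : DihedralGroup 4, x * x * y = y * (x * x) := by decide

theorem central_product_facts {R : Type*} [Group R] [Finite R] {A B : Subgroup R}
    (eA : ↥A ≃* QuaternionGroup 2) (eB : ↥B ≃* DihedralGroup 4) (hcomm : ∀ a ∈ A, ∀ b ∈ B, a * b = b * a)
    (hsup : A ⊔ B = ⊤) (hinf : A ⊓ B = center R) :
    Nat.card (center R) = 2 ∧ ∀ e : R, e * e ∈ center R := by
  classical
  have hdec : ∀ e : R, ∃ a ∈ A, ∃ b ∈ B, e = a * b := by
    intro e
    have he : e ∈ closure ((A : Set R) ∪ B) := by rw [← sup_eq_closure, hsup]; exact mem_top e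
    induction he using closure_induction with
    | mem y hy => exact hy.elim (fun h => ⟨y, h, 1, one_mem B, by simp⟩) fun h => ⟨1, one_mem A, y, h, by simp⟩
    | one => exact ⟨1, one_mem A, 1, one_mem B, by simp⟩
    | mul u v _ _ hu hv =>
      obtain ⟨a, ha, b, hb, rfl⟩ := hu
      obtain ⟨a', ha', b', hb', rfl⟩ := hv
      exact ⟨a * a', mul_mem ha ha', b * b', mul_mem hb hb', by
        rw [mul_assoc a b, ← mul_assoc b a', ← hcomm a' ha' b hb]; group⟩
    | inv u _ hu =>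
      obtain ⟨a, ha, b, hb, rfl⟩ := hu
      exact ⟨a⁻¹, inv_mem ha, b⁻¹, inv_mem hb, by rw [hcomm a ha b hb, mul_inv_rev]⟩
  -- a central element of a member is central
  have hcA : ∀ a : ↥A, (∀ a' : ↥A, a * a' = a' * a) → (a : R) ∈ center R := by
    intro a ha
    refine mem_center_iff.2 fun e => ?_
    obtain ⟨a', ha', b, hb, rfl⟩ := hdec e
    rw [mul_assoc, ← hcomm a a.2 b hb, ← mul_assoc, show a' * (a : R) = a * a' from
      (congrArg Subtype.val (ha ⟨a', ha'⟩) :).symm, mul_assoc]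
  have hcB : ∀ b : ↥B, (∀ b' : ↥B, b * b' = b' * b) → (b : R) ∈ center R := by
    intro b hb
    refine mem_center_iff.2 fun e => ?_
    obtain ⟨a, ha, b', hb', rfl⟩ := hdec e
    rw [mul_assoc, show b' * (b : R) = b * b' from (congrArg Subtype.val (hb ⟨b', hb'⟩) :).symm, ← mul_assoc,
      hcomm a ha b b.2, mul_assoc]
  refine ⟨?_, fun e => ?_⟩
  · have hA2 : Nat.card (center ↥A) = 2 := by
      rw [Nat.card_congr (centerCongr eA).toEquiv, Nat.card_eq_fintype_card]
      decide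
    refine le_antisymm ?_ ?_
    · rw [← hA2]
      refine Nat.card_le_card_of_injective (fun z => (⟨⟨z.1, (hinf.ge z.2).1⟩, mem_center_iff.2 fun a =>
        Subtype.ext (mem_center_iff.1 z.2 a)⟩ : ↥(center ↥A))) fun z w e => Subtype.ext ?_
      exact congrArg (fun p : ↥(center ↥A) => ((p : ↥A) : R)) e
    · rw [← hA2]
      refine Nat.card_le_card_of_injective
        (fun z => (⟨z.1.1, hcA z.1 fun a => (mem_center_iff.1 z.2 a).symm⟩ : ↥(center R))) fun z w e => ?_
      exact Subtype.ext (Subtype.ext (congrArg (fun p : ↥(center R) => (p : R)) e))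
  · obtain ⟨a, ha, b, hb, rfl⟩ := hdec e
    rw [show a * b * (a * b) = a * a * (b * b) by rw [mul_assoc a b, ← mul_assoc b a, ← hcomm a ha b hb]; group]
    refine mul_mem (hcA (⟨a, ha⟩ * ⟨a, ha⟩) fun a' => eA.injective ?_) (hcB (⟨b, hb⟩ * ⟨b, hb⟩) fun b' => eB.injective ?_)
    · simp only [map_mul]; exact (center_q8 _ _).1
    · simp only [map_mul]; exact center_d8 _ _

theorem no_six (hns : ¬ Group.IsSolvable X) (hc : Cfsg.IsPConstrained 2 X) (hO : Cfsg.oddCore X = ⊥)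
    (h4 : Cfsg.SectionalPRankLE 2 4 X) (φ : Equiv.Perm (Fin 6) →* X ⧸ Cfsg.pCore 2 X)
    (hφ : Function.Injective φ) : False := by
  haveI : Fact (Nat.Prime 2) := ⟨Nat.prime_two⟩
  have hsc : centralizer (Cfsg.pCore 2 X : Set X) ≤ Cfsg.pCore 2 X :=
    Cfsg.Agent.PConstr.pCoreSelfCentral_iff.2 ⟨hc, hO⟩
  let ψ : ↥(alternatingGroup (Fin 5)) →* Equiv.Perm (Fin 6) :=
    (Equiv.Perm.viaEmbeddingHom Fin.castSuccEmb).comp (alternatingGroup (Fin 5)).subtype
  have hψ : Function.Injective ψ :=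
    (Equiv.Perm.viaEmbeddingHom_injective _).comp (alternatingGroup (Fin 5)).subtype_injective
  have hS := Cfsg.Agent.S3106.result hns hc hO h4
    ⟨(φ.comp ψ).range, ⟨(MonoidHom.ofInjective (f := φ.comp ψ) (hφ.comp hψ)).symm⟩⟩
  set E := Cfsg.pCore 2 X with hE
  obtain ⟨N, hNn, hNE, hN2, hcard, hsq⟩ : ∃ N : Subgroup X, N.Normal ∧ N ≤ E ∧ Nat.card N ≤ 2 ∧
      Nat.card E = 16 * Nat.card N ∧ ∀ e ∈ E, e * e ∈ N := by
    rcases hS with ⟨hel, h16⟩ | ⟨h32, A, B, ⟨eA⟩, ⟨eB⟩, hcm, hsup, hinf⟩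
    · refine ⟨⊥, inferInstance, bot_le, by simp, by simpa using h16, fun e he => mem_bot.2 ?_⟩
      rw [← pow_two]
      exact hel.2 e he
    · obtain ⟨hZ, hsq⟩ := central_product_facts eA eB hcm hsup hinf
      refine ⟨(center ↥E).map E.subtype, inferInstance, map_subtype_le _, ?_, ?_, fun e he => ⟨⟨e, he⟩ * ⟨e, he⟩, hsq _, rfl⟩⟩
      · rw [card_map_of_injective E.subtype_injective, hZ]
      · rw [card_map_of_injective E.subtype_injective, hZ, h32]
  have hNz : ∀ n ∈ N, n * n = 1 ∧ ∀ x : X, x * n * x⁻¹ = n := by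
    intro n hn
    rcases eq_or_ne n 1 with rfl | hn1
    · simp
    have huniq : ∀ m ∈ N, m = 1 ∨ m = n := by
      intro m hm
      by_contra! h
      classical
      have h3 : ({1, n, m} : Finset X).card ≤ Nat.card N := by
        rw [← Nat.card_eq_finsetCard]
        refine Nat.card_le_card_of_injective (fun x => (⟨x.1, ?_⟩ : ↥N))
          fun x y e => Subtype.ext (congrArg Subtype.val e :)
        have := x.2
        simp only [Finset.mem_insert, Finset.mem_singleton] at this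
        rcases this with h' | h' | h' <;> rw [h']
        exacts [one_mem N, hn, hm]
      rw [Finset.card_eq_three.2 ⟨1, n, m, hn1.symm, h.1.symm, h.2.symm, rfl⟩] at h3
      omega
    exact ⟨(huniq _ (mul_mem hn hn)).resolve_right (fun e => hn1 (mul_eq_right.1 e)),
      fun x => (huniq _ (hNn.conj_mem n hn x)).resolve_left (fun e => hn1 (conj_eq_one_iff.1 e))⟩
  let τ : X ⧸ N →* X ⧸ E := QuotientGroup.map N E (MonoidHom.id X) hNE
  set V := E.map (QuotientGroup.mk' N) with hV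
  haveI : V.Normal := Normal.map inferInstance _ (QuotientGroup.mk'_surjective N)
  have hτ : ∀ y : X ⧸ N, y ∈ V ↔ τ y = 1 := by
    intro y
    obtain ⟨x, rfl⟩ := QuotientGroup.mk_surjective y
    show _ ↔ (x : X ⧸ E) = 1
    rw [QuotientGroup.eq_one_iff]
    refine ⟨?_, fun h => ⟨x, h, rfl⟩⟩
    rintro ⟨e, he, h⟩
    have := QuotientGroup.eq.1 (show (e : X ⧸ N) = x from h)
    simpa using mul_mem he (hNE this)
  have hexp : ∀ v ∈ V, v * v = 1 := by
    rintro _ ⟨e, he, rfl⟩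
    rw [← map_mul, QuotientGroup.mk'_apply, QuotientGroup.eq_one_iff]
    exact hsq e he
  have hcV : ∀ v ∈ V, ∀ w ∈ V, v * w = w * v := fun v hv w hw => by
    have h1 := hexp _ (mul_mem hv hw)
    rw [← inv_eq_iff_mul_eq_one, mul_inv_rev, inv_eq_of_mul_eq_one_right (hexp w hw),
      inv_eq_of_mul_eq_one_right (hexp v hv)] at h1
    exact h1.symm
  have h16 : Nat.card V = 16 := by
    have := card_map_mk N hNE
    have hpos := Nat.card_pos (α := ↥N)
    rw [hcard] at this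
    exact Nat.eq_of_mul_eq_mul_right hpos this.symm
  letI : CommGroup ↥V := { (inferInstance : Group ↥V) with mul_comm := fun a b => Subtype.ext (hcV a a.2 b b.2) }
  let ρ : X →* MulAut ↥V := (MulAut.conjNormal).comp (QuotientGroup.mk' N)
  have hρE : E ≤ ρ.ker := by
    intro e he
    refine MulEquiv.ext fun v => Subtype.ext ?_
    show ((MulAut.conjNormal (e : X ⧸ N) v : ↥V) : X ⧸ N) = v
    rw [MulAut.conjNormal_apply, hcV (e : X ⧸ N) ⟨e, he, rfl⟩ _ v.2, mul_inv_cancel_right]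
  let σ : Equiv.Perm (Fin 6) →* MulAut ↥V := (QuotientGroup.lift E ρ hρE).comp φ
  have hσ : ∀ (g : Equiv.Perm (Fin 6)) (y : X ⧸ N), τ y = φ g → ∀ v : ↥V, (σ g v : X ⧸ N) = y * v * y⁻¹ := by
    intro g y hy v
    obtain ⟨x, rfl⟩ := QuotientGroup.mk_surjective y
    show ((QuotientGroup.lift E ρ hρE (φ g) v : ↥V) : X ⧸ N) = _
    rw [← hy]
    rfl
  have h5 : ∀ c : Equiv.Perm (Fin 6), c ^ 5 = 1 → c ≠ 1 → σ c ≠ 1 := by
    intro c hc hc1 h
    obtain ⟨x, hx⟩ := QuotientGroup.mk_surjective (φ c)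
    have hxx : x * x ∈ E := by
      refine hsc (mem_centralizer_iff.2 fun e he => ?_)
      have hz : x * e * x⁻¹ * e⁻¹ ∈ N := by
        have h1 := hσ c (x : X ⧸ N) hx ⟨(e : X ⧸ N), ⟨e, he, rfl⟩⟩
        rw [h] at h1
        rw [← QuotientGroup.eq_one_iff]
        change (e : X ⧸ N) = (x : X ⧸ N) * e * (x : X ⧸ N)⁻¹ at h1
        simp only [QuotientGroup.mk_mul, QuotientGroup.mk_inv]
        rw [← h1, mul_inv_cancel]
      obtain ⟨hz2, hzc⟩ := hNz _ hz
      set z := x * e * x⁻¹ * e⁻¹ with hzdef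
      have hxe : x * e * x⁻¹ = z * e := by rw [hzdef]; group
      have : x * x * e * (x * x)⁻¹ = e := by
        rw [show x * x * e * (x * x)⁻¹ = x * (x * e * x⁻¹) * x⁻¹ by group, hxe,
          show x * (z * e) * x⁻¹ = x * z * x⁻¹ * (x * e * x⁻¹) by group, hzc, hxe, ← mul_assoc, hz2, one_mul]
      exact (mul_inv_eq_iff_eq_mul.1 this).symm
    have h2 : φ c * φ c = 1 := by
      rw [← hx, ← QuotientGroup.mk_mul, QuotientGroup.eq_one_iff]; exact hxx
    rw [← map_mul, ← map_one φ] at h2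
    have h2' := hφ h2
    apply hc1
    calc c = c ^ 5 * ((c * c) * (c * c))⁻¹ := by group
      _ = 1 := by rw [hc, h2']; simp
  obtain ⟨a, b, u, ha2, hb2, hu2, hab, hau, hbu, ha, hb, hab', hu, hua, hub, huab, fa, fb, fab⟩ :=
    free_four h16 (fun v => Subtype.ext (hexp v v.2)) σ h5
  have hl : ∀ g, ∃ y : X ⧸ N, τ y = φ g := fun g => by
    obtain ⟨x, hx⟩ := QuotientGroup.mk_surjective (φ g)
    exact ⟨(x : X ⧸ N), hx⟩
  obtain ⟨ya, hya⟩ := hl a
  obtain ⟨yb, hyb⟩ := hl b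
  obtain ⟨yu, hyu⟩ := hl u
  have mem1 : ∀ y g, τ y = φ g → g = 1 → y ∈ V := fun y g h e => (hτ y).2 (by rw [h, e, map_one])
  have not1 : ∀ y g, τ y = φ g → g ≠ 1 → y ∉ V := fun y g h e hy =>
    e (hφ (by rw [← h, map_one]; exact (hτ y).1 hy))
  have hm : ∀ {y y' g g'}, τ y = φ g → τ y' = φ g' → τ (y * y') = φ (g * g') :=
    fun h h' => by rw [map_mul, map_mul, h, h']
  have hcm : ∀ {y y' g g'}, τ y = φ g → τ y' = φ g' → g * g' = g' * g → CommMod V y y' := fun {y y' g g'} h h' e =>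
    (hτ _).2 (by
      simp only [map_mul, map_inv, h, h']
      rw [← map_mul φ, e, map_mul, mul_inv_cancel_right, mul_inv_cancel])
  have hfix : ∀ y g, τ y = φ g → ∀ v : ↥V, v ∈ fixS (σ g) ↔ (v : X ⧸ N) ∈ centralizer {y} := by
    intro y g h v
    rw [mem_fixS, Subtype.ext_iff, hσ g y h v, mul_inv_eq_iff_eq_mul, mem_centralizer_singleton_iff]
    exact eq_comm
  have card1 : ∀ y g, τ y = φ g → Nat.card ↥(V ⊓ centralizer {y}) = Nat.card ↥(fixS (σ g)) := fun y g h =>
    Nat.card_congr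
      { toFun := fun v => ⟨⟨v.1, v.2.1⟩, (hfix y g h _).2 v.2.2⟩
        invFun := fun v => ⟨v.1.1, v.1.2, (hfix y g h _).1 v.2⟩
        left_inv := fun v => rfl
        right_inv := fun v => rfl }
  refine rank_five (sectional_quotient N h4) V hcV hexp h16 ya yb yu (mem1 _ _ (hm hya hya) ha2)
    (mem1 _ _ (hm hyb hyb) hb2) (mem1 _ _ (hm hyu hyu) hu2) (hcm hya hyb hab) (hcm hya hyu hau) (hcm hyb hyu hbu)
    (not1 _ _ hya ha) (not1 _ _ hyb hb) (not1 _ _ (hm hya hyb) hab') (not1 _ _ hyu hu) (not1 _ _ (hm hya hyu) hua)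
    (not1 _ _ (hm hyb hyu) hub) (not1 _ _ (hm (hm hya hyb) hyu) huab) ((card1 _ _ hya).trans fa)
    ((card1 _ _ hyb).trans fb) ?_
  rw [← fab]
  exact Nat.card_congr
    { toFun := fun v => ⟨⟨v.1, v.2.1.1⟩, (hfix ya a hya _).2 v.2.1.2, (hfix yb b hyb _).2 v.2.2⟩
      invFun := fun v => ⟨v.1.1, ⟨v.1.2, (hfix ya a hya _).1 v.2.1⟩, (hfix yb b hyb _).1 v.2.2⟩
      left_inv := fun v => rfl
      right_inv := fun v => rfl }

end Cfsg.Agent.SecFour
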