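import Cfsg.Agent.SecFour.Top
import Cfsg.Agent.Core.Solvable

/-!
The layer of order two below the top layer: counting square roots of one, and the exclusion of a third layer.
-/

set_option autoImplicit false
set_option maxHeartbeats 400000

namespace Cfsg.Agent.SecFour

open Subgroup

variable {Y : Type*} [Group Y]

theorem central_of_card_two [Finite Y] {Z : Subgroup Y} [Z.Normal] (h : Nat.card Z = 2) : Z ≤ center Y := by
  intro z hz
  refine mem_center_iff.2 fun y => ?_
  rcases eq_or_ne z 1 with rfl | hz1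
  · simp
  obtain ⟨w, -, hw⟩ := (Nat.card_eq_two_iff' (1 : Z)).1 h
  have h1 : (⟨z, hz⟩ : Z) = w := hw _ fun e => hz1 (congrArg Subtype.val e)
  have h2 : (⟨y * z * y⁻¹, ‹Z.Normal›.conj_mem z hz y⟩ : Z) = w :=
    hw _ fun e => hz1 (conj_eq_one_iff.1 (congrArg Subtype.val e))
  exact mul_inv_eq_iff_eq_mul.1 (congrArg Subtype.val (h2.trans h1.symm))

theorem mem_of_card_two [Finite Y] {Z : Subgroup Y} (h : Nat.card Z = 2) {z x : Y} (hz : z ∈ Z) (hz1 : z ≠ 1)
    (hx : x ∈ Z) : x = 1 ∨ x = z := by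
  obtain ⟨w, -, hw⟩ := (Nat.card_eq_two_iff' (1 : Z)).1 h
  by_cases hx1 : x = 1
  · exact Or.inl hx1
  · right
    exact congrArg Subtype.val ((hw ⟨x, hx⟩ fun e => hx1 (congrArg Subtype.val e)).trans
      (hw ⟨z, hz⟩ fun e => hz1 (congrArg Subtype.val e)).symm)

/-- The Gauss sum of the squaring map of a group with squares and commutators in a central subgroup of order two. -/
theorem card_sq_one {R : Type*} [Group R] [Finite R] (z : R) (hz : z ≠ 1) (hzz : z * z = 1)
    (hzc : ∀ x, z * x = x * z) (hsq : ∀ x : R, x * x = 1 ∨ x * x = z)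
    (hcm : ∀ x y : R, x * y * x⁻¹ * y⁻¹ = 1 ∨ x * y * x⁻¹ * y⁻¹ = z)
    (hcen : ∀ y : R, (∀ x, x * y = y * x) ↔ y = 1 ∨ y = z) :
    (2 * (Nat.card {x : R // x * x = 1} : ℤ) - Nat.card R) ^ 2 = 2 * Nat.card R := by
  classical
  letI := Fintype.ofFinite R
  let σ : R → ℤ := fun x => if x * x = 1 then 1 else -1
  let χ : R → R → ℤ := fun x y => if x * y = y * x then 1 else -1
  have hkey : ∀ x y, σ x * σ (x * y) = σ y * χ x y := by
    intro x y
    have hcomm : x * y = y * x ↔ x * y * x⁻¹ * y⁻¹ = 1 := by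
      rw [← commutatorElement_def, commutatorElement_eq_one_iff_mul_comm]
    have e : x * y * (x * y) = (y * x * y⁻¹ * x⁻¹)⁻¹⁻¹ * (x * x) * (y * y) := by
      have hc : (y * x * y⁻¹ * x⁻¹) * x = x * (y * x * y⁻¹ * x⁻¹) := by
        rcases hcm y x with h | h <;> rw [h] <;> simp [hzc]
      calc x * y * (x * y) = x * (y * x * y⁻¹ * x⁻¹) * x * (y * y) := by group
        _ = _ := by rw [← hc]; group
    have hinv : (y * x * y⁻¹ * x⁻¹) = (x * y * x⁻¹ * y⁻¹)⁻¹ := by group
    simp only [σ, χ, hcomm, e, hinv, inv_inv]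
    rcases hsq x with a | a <;> rcases hsq y with b | b <;> rcases hcm x y with c | c <;>
      rw [a, b, c] <;> simp [hz, hzz, inv_eq_of_mul_eq_one_right hzz]
  have hzero : ∀ y, ¬ (y = 1 ∨ y = z) → ∑ x, χ x y = 0 := by
    intro y hy
    obtain ⟨x₀, hx₀⟩ := not_forall.1 (mt (hcen y).1 hy)
    have hneg : ∀ x, χ (x * x₀) y = - χ x y := by
      intro x
      have hc1 : x₀ * y * x₀⁻¹ * y⁻¹ = z := (hcm x₀ y).resolve_left fun h =>
        hx₀ (commutatorElement_eq_one_iff_mul_comm.1 h)
      have e : x * x₀ * y * (x * x₀)⁻¹ * y⁻¹ = x * (x₀ * y * x₀⁻¹ * y⁻¹) * x⁻¹ * (x * y * x⁻¹ * y⁻¹) := by group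
      have hcomm : ∀ a : R, a * y = y * a ↔ a * y * a⁻¹ * y⁻¹ = 1 := fun a => by
        rw [← commutatorElement_def, commutatorElement_eq_one_iff_mul_comm]
      simp only [χ, hcomm, e, hc1, ← hzc x, mul_inv_cancel_right]
      rcases hcm x y with c | c <;> rw [c] <;> simp [hz, hzz]
    have h := Equiv.sum_comp (Equiv.mulRight x₀) fun x => χ x y
    simp only [Equiv.coe_mulRight, hneg, Finset.sum_neg_distrib] at h
    linarith
  have hsum : (∑ x, σ x) ^ 2 = 2 * Nat.card R := by
    calc (∑ x, σ x) ^ 2 = ∑ x, ∑ y, σ x * σ (x * y) := by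
          rw [pow_two, Finset.sum_mul]
          refine Finset.sum_congr rfl fun x _ => ?_
          rw [Finset.mul_sum]
          exact (Equiv.sum_comp (Equiv.mulLeft x) fun y => σ x * σ y).symm
      _ = ∑ y, σ y * ∑ x, χ x y := by
          rw [Finset.sum_comm]
          refine Finset.sum_congr rfl fun y _ => ?_
          rw [Finset.mul_sum]
          exact Finset.sum_congr rfl fun x _ => hkey x y
      _ = ∑ y ∈ ({1, z} : Finset R), σ y * ∑ x, χ x y := by
          refine (Finset.sum_subset (Finset.subset_univ _) fun y _ hy => ?_).symm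
          rw [hzero y (by simpa using hy), mul_zero]
      _ = _ := by
          rw [Finset.sum_pair hz.symm]
          simp [σ, χ, hzz, hzc, ← two_mul, Nat.card_eq_fintype_card]
  have hT : ∑ x, σ x = 2 * (Nat.card {x : R // x * x = 1} : ℤ) - Nat.card R := by
    rw [Nat.card_eq_fintype_card, Nat.card_eq_fintype_card, Fintype.card_subtype]
    have hs : ∀ x, σ x = 2 * (if x * x = 1 then (1 : ℤ) else 0) - 1 := fun x => by
      by_cases h : x * x = 1 <;> simp [σ, h]
    rw [Finset.sum_congr rfl fun x _ => hs x, Finset.sum_sub_distrib, ← Finset.mul_sum, Finset.sum_boole]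
    simp
  rw [← hT]
  exact hsum

variable [Finite Y] {Q : Subgroup Y} [hQn : Q.Normal] {f t g : Y}

/-- The extraspecial layer. -/
theorem Ext.extra (E : Ext Y Q f t g) {Z : Subgroup Y} [Z.Normal] (T : Top Y Q Z f) (hZ : Nat.card Z = 2)
    (hne : ∃ x ∈ Q, x * x ≠ 1) :
    Nat.card Q = 32 ∧ Nat.card {x : Y // x ∈ Q ∧ x * x = 1} = 12 ∧
      (∀ x ∈ Q, (∀ y ∈ Q, x * y = y * x) → x ∈ Z) := by
  haveI : Fact (Nat.Prime 5) := ⟨by norm_num⟩
  obtain ⟨hQ, hf, -, -, -, hinv⟩ := E.top_layer T
  rw [hZ] at hQ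
  have hZc := central_of_card_two hZ
  obtain ⟨⟨z, hzZ⟩, hzne, -⟩ := (Nat.card_eq_two_iff' (1 : Z)).1 hZ
  have hz : z ≠ 1 := fun e => hzne (Subtype.ext e)
  have hfc : ∀ x : Y, x ∈ Z → f * x = x * f := fun x hx => mem_center_iff.1 (hZc hx) f
  -- `Q` is not commutative
  have hnab : ¬ ∀ x ∈ Q, ∀ y ∈ Q, x * y = y * x := by
    intro hab
    let W : Subgroup Y :=
      { carrier := {x | x ∈ Q ∧ x * x = 1}
        one_mem' := ⟨Q.one_mem, one_mul _⟩
        mul_mem' := fun {a b} ha hb => ⟨Q.mul_mem ha.1 hb.1, by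
          rw [mul_assoc a b, ← mul_assoc b a b, hab b hb.1 a ha.1, mul_assoc a b b, hb.2, mul_one, ha.2]⟩
        inv_mem' := fun {a} ha => ⟨Q.inv_mem ha.1, by rw [← mul_inv_rev, ha.2, inv_one]⟩ }
    have hZW : Z ≤ W := fun x hx => ⟨T.le hx, by
      rcases mem_of_card_two hZ hzZ hz (Z.mul_mem hx hx) with h | h
      · exact h
      · rcases mem_of_card_two hZ hzZ hz hx with e | e
        · simp [e]
        · rw [e] at h; exact absurd (mul_eq_left.1 h) hz⟩
    rcases hinv W hZW (fun x hx => hx.1) (fun x hx => ⟨hQn.conj_mem x hx.1 f, by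
        rw [show f * x * f⁻¹ * (f * x * f⁻¹) = f * (x * x) * f⁻¹ by group, hx.2]; group⟩) with h | h
    · let sq : ↥Q →* ↥Z := MonoidHom.mk' (fun x => ⟨(x : Y) * x, T.sq x x.2⟩) fun a b => Subtype.ext (by
        show (a : Y) * b * (a * b) = a * a * (b * b)
        rw [mul_assoc (a : Y) b, ← mul_assoc (b : Y) a b, hab b b.2 a a.2]; group)
      have hk : Nat.card sq.ker ≤ 2 := by
        rw [← hZ]
        refine Nat.card_le_card_of_injective (fun x => (⟨((x : ↥Q) : Y), h.le ⟨x.1.2, congrArg Subtype.val x.2⟩⟩ : ↥Z)) ?_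
        intro a b e
        exact Subtype.ext (Subtype.ext (congrArg (fun w : ↥Z => (w : Y)) e))
      have hr : Nat.card sq.range ≤ 2 := hZ ▸ card_le_card_group sq.range
      have := sq.ker.card_mul_index
      rw [index_ker, hQ] at this
      nlinarith
    · obtain ⟨x, hx, hxx⟩ := hne
      exact hxx (h.ge hx).2
  have hcen : ∀ x ∈ Q, (∀ y ∈ Q, x * y = y * x) → x ∈ Z := by
    intro x hx hxc
    rcases hinv (Q ⊓ centralizer (Q : Set Y))
      (fun w hw => ⟨T.le hw, mem_centralizer_iff.2 fun y _ => mem_center_iff.1 (hZc hw) y⟩) inf_le_left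
      (fun w hw => ⟨hQn.conj_mem w hw.1 f,
        (inferInstance : (centralizer (Q : Set Y)).Normal).conj_mem w hw.2 f⟩) with h | h
    · exact h.le ⟨hx, mem_centralizer_iff.2 fun y hy => (hxc y hy).symm⟩
    · exact absurd (fun a ha b hb => (mem_centralizer_iff.1 (h.ge ha).2 b hb).symm) hnab
  refine ⟨hQ, ?_, hcen⟩
  have hzz : z * z = 1 := (mem_of_card_two hZ hzZ hz (Z.mul_mem hzZ hzZ)).resolve_right fun h =>
    hz (mul_eq_left.1 h)
  have hG := card_sq_one (R := ↥Q) ⟨z, T.le hzZ⟩ (fun e => hz (congrArg Subtype.val e))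
    (Subtype.ext hzz) (fun x => Subtype.ext (mem_center_iff.1 (hZc hzZ) x).symm)
    (fun x => (mem_of_card_two hZ hzZ hz (T.sq x x.2)).imp (fun h => Subtype.ext h) fun h => Subtype.ext h)
    (fun x y => (mem_of_card_two hZ hzZ hz (commutator_mem T.sq x.2 y.2)).imp (fun h => Subtype.ext h)
      fun h => Subtype.ext h)
    (fun y => ⟨fun h => (mem_of_card_two hZ hzZ hz (hcen y y.2 fun w hw =>
        (congrArg Subtype.val (h ⟨w, hw⟩)).symm)).imp (fun h => Subtype.ext h) fun h => Subtype.ext h,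
      fun h x => by
        rcases h with e | e
        · simp [e]
        · rw [e]; exact Subtype.ext (mem_center_iff.1 (hZc hzZ) x)⟩)
  have hcong : Nat.card {x : ↥Q // x * x = 1} = Nat.card {x : Y // x ∈ Q ∧ x * x = 1} :=
    Nat.card_congr
      { toFun := fun x => ⟨x.1.1, x.1.2, congrArg Subtype.val x.2⟩
        invFun := fun x => ⟨⟨x.1, x.2.1⟩, Subtype.ext x.2.2⟩
        left_inv := fun x => rfl
        right_inv := fun x => rfl }
  rw [hcong, hQ] at hG
  set k := Nat.card {x : Y // x ∈ Q ∧ x * x = 1} with hk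
  have hmod : k ≡ 2 [MOD 5] := by
    refine (fixed_modEq E.f5 {x | x ∈ Q ∧ x * x = 1} fun x hx => ⟨hQn.conj_mem x hx.1 f, by
      rw [show f * x * f⁻¹ * (f * x * f⁻¹) = f * (x * x) * f⁻¹ by group, hx.2]; group⟩).symm.trans
      (congrArg (· % 5) ?_)
    rw [← hZ]
    refine Nat.card_congr (Equiv.subtypeEquivRight fun x => ?_)
    refine ⟨fun ⟨⟨hx, _⟩, hfx⟩ => hf x hx (by rw [hfx, mul_inv_cancel_right, mul_inv_cancel]; exact Z.one_mem),
      fun hx => ⟨⟨T.le hx, ?_⟩, hfc x hx⟩⟩
    rcases mem_of_card_two hZ hzZ hz hx with e | e <;> simp [e, hzz]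
  push_cast at hG
  have h2 : (k = 12 ∨ k = 20) := by
    have : ((k : ℤ) - 12) * ((k : ℤ) - 20) = 0 := by nlinarith
    rcases mul_eq_zero.1 this with h | h <;> [left; right] <;> omega
  rcases h2 with h | h
  · exact h
  · rw [h] at hmod; simp [Nat.ModEq] at hmod

/-- There is no third layer. -/
theorem Ext.no_third_layer (E : Ext Y Q f t g) {Z P : Subgroup Y} [Z.Normal] [P.Normal] (T : Top Y Q P f)
    (hZP : Z ≤ P) (hP : Nat.card P = 2 * Nat.card Z) (hZ1 : Z ≠ ⊥)
    (hmin : ∀ N : Subgroup Y, N.Normal → N ≤ Z → N = ⊥ ∨ N = Z)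
    (hgen : ∀ W : Subgroup Y, (∀ x ∈ Q, x * x ∈ W) → P ≤ W) : False := by
  haveI : Fact (Nat.Prime 2) := ⟨Nat.prime_two⟩
  haveI : Fact (Nat.Prime 3) := ⟨by norm_num⟩
  haveI : Fact (Nat.Prime 5) := ⟨by norm_num⟩
  have hZQ : Z ≤ Q := hZP.trans T.le
  have hPne : ¬ P ≤ Z := fun h => by
    have h1 := Nat.card_le_card_of_injective _ (inclusion_injective h)
    have h2 := Nat.card_pos (α := ↥Z)
    omega
  obtain ⟨x, hx, hxZ⟩ : ∃ x ∈ Q, x * x ∉ Z := by
    by_contra! h; exact hPne (hgen Z h)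
  obtain ⟨z, hzdef⟩ : ∃ z, z = x * x := ⟨_, rfl⟩
  rw [← hzdef] at hxZ
  have hzP : z ∈ P := hzdef ▸ T.sq x hx
  -- `Z` is central in `Q`
  have hQc : Q ≤ centralizer (Z : Set Y) := by
    rcases hmin (Z ⊓ centralizer (Q : Set Y)) inferInstance inf_le_left with h | h
    · exfalso
      haveI : Group.IsNilpotent ↥Q := E.two.isNilpotent
      have hb : Z.subgroupOf Q ≠ ⊥ := fun e => hZ1
        (disjoint_self.1 ((subgroupOf_eq_bot.1 e).mono le_rfl hZQ))
      obtain ⟨⟨c, hcZ, hcc⟩, hc1⟩ := ne_bot_iff_exists_ne_one.1 (Agent.Core.inf_center_ne_bot hb)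
      have : (c : Y) ∈ (⊥ : Subgroup Y) := h ▸ ⟨mem_subgroupOf.1 hcZ, mem_centralizer_iff.2 fun y hy =>
        congrArg Subtype.val (mem_center_iff.1 hcc ⟨y, hy⟩)⟩
      exact hc1 (Subtype.ext (Subtype.ext (mem_bot.1 this)))
    · intro y hy
      exact mem_centralizer_iff.2 fun w hw => (mem_centralizer_iff.1 (h.ge hw).2 y hy).symm
  have hcomm : ∀ a ∈ Z, ∀ b ∈ Q, a * b = b * a := fun a ha b hb => mem_centralizer_iff.1 (hQc hb) a ha
  -- `Z` has exponent two
  have hexp : ∀ a ∈ Z, a * a = 1 := by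
    let Ω : Subgroup Y :=
      { carrier := {a | a ∈ Z ∧ a * a = 1}
        one_mem' := ⟨Z.one_mem, one_mul _⟩
        mul_mem' := fun {a b} ha hb => ⟨Z.mul_mem ha.1 hb.1, by
          rw [mul_assoc a b, ← mul_assoc b a b, hcomm b hb.1 a (hZQ ha.1), mul_assoc a b b, hb.2, mul_one, ha.2]⟩
        inv_mem' := fun {a} ha => ⟨Z.inv_mem ha.1, by rw [← mul_inv_rev, ha.2, inv_one]⟩ }
    haveI : Ω.Normal := ⟨fun a ha y => ⟨‹Z.Normal›.conj_mem a ha.1 y, by
      rw [show y * a * y⁻¹ * (y * a * y⁻¹) = y * (a * a) * y⁻¹ by group, ha.2]; group⟩⟩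
    rcases hmin Ω inferInstance (fun a ha => ha.1) with h | h
    · exfalso
      obtain ⟨m, hm⟩ := (E.two.to_le hZQ).exists_card_eq
      have : 2 ∣ Nat.card Z := hm ▸ dvd_pow_self 2 fun e => hZ1 (card_eq_one.1 (by rw [hm, e]; rfl))
      obtain ⟨a, ha⟩ := exists_prime_orderOf_dvd_card' 2 this
      have h1 : a * a = 1 := by rw [← pow_two, ← ha, pow_orderOf_eq_one]
      have : (a : Y) ∈ (⊥ : Subgroup Y) := h ▸ ⟨a.2, by simpa using congrArg Subtype.val h1⟩
      rw [show a = 1 from Subtype.ext (mem_bot.1 this), orderOf_one] at ha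
      norm_num at ha
    · exact fun a ha => (h.ge ha).2
  -- cosets of `Z` in `P`
  have hidx : (Z.subgroupOf P).index = 2 := by
    have h := (Z.subgroupOf P).card_mul_index
    rw [Nat.card_congr (subgroupOfEquivOfLe hZP).toEquiv, hP, mul_comm 2] at h
    exact Nat.eq_of_mul_eq_mul_left Nat.card_pos h
  have hcos : ∀ a ∈ P, a ∉ Z → z⁻¹ * a ∈ Z := by
    intro a ha haZ
    have := (mul_mem_iff_of_index_two hidx (a := (⟨z, hzP⟩ : ↥P)⁻¹) (b := ⟨a, ha⟩)).2 (by
      simp [mem_subgroupOf, hxZ, haZ])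
    simpa [mem_subgroupOf] using this
  by_cases hZc : Z ≤ center Y
  swap
  · -- the big case
    obtain ⟨hZ16, hfZ, -⟩ := E.layer hZQ hexp hQc hZc
    have hsqc : ∀ a ∈ P, a ∉ Z → a * a = z * z := by
      intro a ha haZ
      have hb := hcos a ha haZ
      calc a * a = z * (z⁻¹ * a) * (z * (z⁻¹ * a)) := by simp
        _ = z * z * ((z⁻¹ * a) * (z⁻¹ * a)) := by
          rw [mul_assoc z, ← mul_assoc (z⁻¹ * a) z, hcomm _ hb z (T.le hzP)]; simp [mul_assoc]
        _ = _ := by rw [hexp _ hb, mul_one]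
    have hzz : z * z = 1 := by
      have hzzZ : z * z ∈ Z := by
        have := (mul_mem_iff_of_index_two hidx (a := (⟨z, hzP⟩ : ↥P)) (b := ⟨z, hzP⟩)).2 Iff.rfl
        simpa [mem_subgroupOf] using this
      refine hfZ _ hzzZ ?_
      have h := hsqc (f * z * f⁻¹) (‹P.Normal›.conj_mem z hzP f) fun h => hxZ (by
        have := ‹Z.Normal›.conj_mem _ h f⁻¹
        rwa [inv_inv, show f⁻¹ * (f * z * f⁻¹) * f = z by group] at this)
      rw [show f * z * f⁻¹ * (f * z * f⁻¹) = f * (z * z) * f⁻¹ by group] at h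
      exact mul_inv_eq_iff_eq_mul.1 h
    have hb := rank_bound E.rank P ⊥ bot_le (fun k _ n hn => by rw [mem_bot] at hn; simp [hn]) fun a ha => by
      by_cases haZ : a ∈ Z
      · exact mem_bot.2 (hexp a haZ)
      · exact mem_bot.2 ((hsqc a ha haZ).trans hzz)
    rw [hP, hZ16, card_bot] at hb
    norm_num at hb
  · -- the small case
    have hZ2 : Nat.card Z = 2 := by
      obtain ⟨⟨m, hmZ⟩, hm⟩ := ne_bot_iff_exists_ne_one.1 hZ1
      have hm1 : m ≠ 1 := fun e => hm (Subtype.ext e)
      haveI : (zpowers m).Normal := ⟨fun a ha y => by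
        rw [mem_center_iff.1 (hZc (zpowers_le.2 hmZ ha)) y, mul_inv_cancel_right]; exact ha⟩
      rcases hmin (zpowers m) inferInstance (zpowers_le.2 hmZ) with h | h
      · exact absurd (zpowers_eq_bot.1 h) hm1
      · rw [← h, Nat.card_zpowers]
        exact orderOf_eq_prime (by rw [pow_two]; exact hexp m hmZ) hm1
    have hP4 : Nat.card P = 4 := by omega
    obtain ⟨hQ, -, -, -, hgP, hinv⟩ := E.top_layer T
    rw [hP4] at hQ hgP
    -- `P` is central
    have hPab : ∀ a ∈ P, ∀ b ∈ P, a * b = b * a := by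
      intro a ha b hb
      have key : ∀ a ∈ P, a * z = z * a := fun a ha => by
        by_cases haZ : a ∈ Z
        · exact hcomm a haZ z (T.le hzP)
        · have h := hcos a ha haZ
          have h' := hcomm _ h z (T.le hzP)
          calc a * z = z * (z⁻¹ * a * z) := by group
            _ = _ := by rw [h']; group
      by_cases hbZ : b ∈ Z
      · exact (hcomm b hbZ a (T.le ha)).symm
      · have h := hcos b hb hbZ
        calc a * b = (a * z) * (z⁻¹ * b) := by group
          _ = z * (a * (z⁻¹ * b)) := by rw [key a ha]; group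
          _ = _ := by rw [← hcomm _ h a (T.le ha)]; group
    have hfz : f * z = z * f := by
      by_contra hne
      set m := z⁻¹ * (f * z * f⁻¹) with hm
      have hmZ : m ∈ Z := hcos _ (‹P.Normal›.conj_mem z hzP f) fun h => hxZ (by
        have := ‹Z.Normal›.conj_mem _ h f⁻¹
        rwa [inv_inv, show f⁻¹ * (f * z * f⁻¹) * f = z by group] at this)
      have hmc : ∀ y, y * m = m * y := mem_center_iff.1 (hZc hmZ)
      have hit : ∀ i : ℕ, f ^ i * z * (f ^ i)⁻¹ = z * m ^ i := by
        intro i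
        induction i with
        | zero => simp
        | succ i ih =>
          calc f ^ (i + 1) * z * (f ^ (i + 1))⁻¹ = f * (f ^ i * z * (f ^ i)⁻¹) * f⁻¹ := by rw [pow_succ']; group
            _ = (f * z * f⁻¹) * (f * m ^ i * f⁻¹) := by rw [ih]; group
            _ = (f * z * f⁻¹) * m ^ i := by
              rw [((show Commute f m from hmc f).pow_right i).eq, mul_inv_cancel_right]
            _ = _ := by rw [pow_succ', ← mul_assoc, hm, mul_inv_cancel_left]
      have h5 := hit 5
      rw [E.f5, one_mul, inv_one, mul_one, left_eq_mul,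
        show m ^ 5 = m * (m * m) * (m * m) by simp [pow_succ, mul_assoc], hexp m hmZ, mul_one, mul_one, hm, inv_mul_eq_one,
        eq_mul_inv_iff_mul_eq] at h5
      exact hne h5.symm
    have hQP : Q ≤ centralizer (P : Set Y) := by
      rcases hinv (Q ⊓ centralizer (P : Set Y))
        (fun a ha => ⟨T.le ha, mem_centralizer_iff.2 fun b hb => hPab b hb a ha⟩) inf_le_left
        (fun w hw => ⟨hQn.conj_mem w hw.1 f,
          (inferInstance : (centralizer (P : Set Y)).Normal).conj_mem w hw.2 f⟩) with h | h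
      · exfalso
        let φ : ↥Q →* ↥Z := MonoidHom.mk' (fun y => ⟨z⁻¹ * ((y : Y) * z * (y : Y)⁻¹),
          hcos _ (‹P.Normal›.conj_mem z hzP y) fun e => hxZ (by
            have := ‹Z.Normal›.conj_mem _ e (y : Y)⁻¹
            rwa [inv_inv, show (y : Y)⁻¹ * ((y : Y) * z * (y : Y)⁻¹) * y = z by group] at this)⟩) fun a b => by
          apply Subtype.ext
          show z⁻¹ * ((a : Y) * b * z * ((a : Y) * b)⁻¹) = z⁻¹ * (a * z * (a : Y)⁻¹) * (z⁻¹ * (b * z * (b : Y)⁻¹))
          have hc : ∀ y, y * (z⁻¹ * ((b : Y) * z * (b : Y)⁻¹)) = z⁻¹ * ((b : Y) * z * (b : Y)⁻¹) * y :=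
            mem_center_iff.1 (hZc (hcos _ (‹P.Normal›.conj_mem z hzP b) fun e => hxZ (by
              have := ‹Z.Normal›.conj_mem _ e (b : Y)⁻¹
              rwa [inv_inv, show (b : Y)⁻¹ * ((b : Y) * z * (b : Y)⁻¹) * b = z by group] at this)))
          calc z⁻¹ * ((a : Y) * b * z * ((a : Y) * b)⁻¹)
              = z⁻¹ * (a * z) * (z⁻¹ * ((b : Y) * z * (b : Y)⁻¹)) * (a : Y)⁻¹ := by group
            _ = z⁻¹ * (a * z) * ((a : Y)⁻¹ * (z⁻¹ * ((b : Y) * z * (b : Y)⁻¹))) := by rw [mul_assoc _ _ (a : Y)⁻¹, ← hc]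
            _ = _ := by group
        have hk : Nat.card φ.ker ≤ 4 := by
          rw [← hP4]
          refine Nat.card_le_card_of_injective (fun y => (⟨((y : ↥Q) : Y), h.le ⟨y.1.2, ?_⟩⟩ : ↥P)) ?_
          · have hy : z⁻¹ * (((y : ↥Q) : Y) * z * ((y : ↥Q) : Y)⁻¹) = 1 := congrArg Subtype.val y.2
            rw [inv_mul_eq_one, eq_mul_inv_iff_mul_eq] at hy
            refine mem_centralizer_iff.2 fun b hb => ?_
            by_cases hbZ : b ∈ Z
            · exact hcomm b hbZ _ y.1.2
            · have h' := hcomm _ (hcos b hb hbZ) _ y.1.2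
              calc b * ((y : ↥Q) : Y) = z * ((z⁻¹ * b) * ((y : ↥Q) : Y)) := by group
                _ = (z * ((y : ↥Q) : Y)) * (z⁻¹ * b) := by rw [h']; group
                _ = _ := by rw [hy]; group
          · intro a b e
            exact Subtype.ext (Subtype.ext (congrArg (fun w : ↥P => (w : Y)) e))
        have hr : Nat.card φ.range ≤ 2 := hZ2 ▸ card_le_card_group φ.range
        have := φ.ker.card_mul_index
        rw [index_ker, hQ] at this
        nlinarith
      · exact h.ge.trans inf_le_right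
    have hPc : P ≤ center Y := by
      rcases E.top (centralizer (P : Set Y)) inferInstance hQP with h | h
      · refine absurd (h ▸ mem_centralizer_iff.2 fun b hb => ?_) E.fQ
        by_cases hbZ : b ∈ Z
        · exact (mem_center_iff.1 (hZc hbZ) f).symm
        · calc b * f = z * ((z⁻¹ * b) * f) := by group
            _ = (z * f) * (z⁻¹ * b) := by rw [← mem_center_iff.1 (hZc (hcos b hb hbZ)) f]; group
            _ = _ := by rw [← hfz]; group
      · intro a ha
        exact mem_center_iff.2 fun y => (mem_centralizer_iff.1 (h ▸ mem_top y) a ha).symm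
    -- `P` is elementary abelian
    have hPexp : ∀ a ∈ P, a * a = 1 := by
      obtain ⟨u, hu, v, hv, huv⟩ : ∃ u ∈ Q, ∃ v ∈ Q, u * v * u⁻¹ * v⁻¹ ∉ Z := by
        by_contra! hall
        set mk := QuotientGroup.mk' Z with hmk
        haveI : (P.map mk).Normal := ‹P.Normal›.map _ (QuotientGroup.mk'_surjective Z)
        haveI : (Q.map mk).Normal := hQn.map _ (QuotientGroup.mk'_surjective Z)
        obtain ⟨x₀, hx₀, hfx₀⟩ := T.faith
        have T' : Top (Y ⧸ Z) (Q.map mk) (P.map mk) (f : Y ⧸ Z) :=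
          ⟨map_mono T.le, by rintro _ ⟨a, ha, rfl⟩; exact ⟨a * a, T.sq a ha, map_mul _ _ _⟩,
            ⟨mk x₀, ⟨x₀, hx₀, rfl⟩, fun ⟨a, ha, e⟩ => hfx₀ (by
              have := QuotientGroup.eq.1 (show ((a : Y) : Y ⧸ Z) = ((f * x₀ * f⁻¹ * x₀⁻¹ : Y) : Y ⧸ Z) by
                simpa [hmk] using e)
              simpa using P.mul_mem ha (hZP this))⟩⟩
        have hP2 : Nat.card ↥(P.map mk) = 2 := by
          have : Nat.card P = Nat.card ↥(P.map mk) * Nat.card Z := card_map_mk Z hZP
          rw [hP4, hZ2] at this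
          omega
        obtain ⟨hc, -, hcen⟩ := (E.quotient Z hZQ).extra T' hP2 ⟨mk x, ⟨x, hx, rfl⟩, fun e => hxZ (by
          rw [← map_mul, ← hzdef] at e
          exact (QuotientGroup.eq_one_iff _).1 e)⟩
        have hle : Q.map mk ≤ P.map mk := by
          rintro _ ⟨a, ha, rfl⟩
          refine hcen _ ⟨a, ha, rfl⟩ ?_
          rintro _ ⟨b, hb, rfl⟩
          rw [← commutatorElement_eq_one_iff_mul_comm, commutatorElement_def, ← map_inv, ← map_inv, ← map_mul,
            ← map_mul, ← map_mul]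
          exact (QuotientGroup.eq_one_iff _).2 (hall a ha b hb)
        have : Nat.card ↥(Q.map mk) ≤ Nat.card ↥(P.map mk) :=
          Nat.card_le_card_of_injective _ (inclusion_injective hle)
        have hc' : Nat.card ↥(Q.map mk) = 32 := hc
        omega
      set c := u * v * u⁻¹ * v⁻¹ with hc
      have hcP : c ∈ P := commutator_mem T.sq hu hv
      have hcc : c * c = 1 := by
        have h1 : ∀ y, y * c = c * y := mem_center_iff.1 (hPc hcP)
        have h2 : ∀ y, y * (u * u) = (u * u) * y := mem_center_iff.1 (hPc (T.sq u hu))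
        calc c * c = u * c * u⁻¹ * c := by rw [h1 u, mul_inv_cancel_right]
          _ = u * u * v * (u * u)⁻¹ * v⁻¹ := by rw [hc]; group
          _ = 1 := by rw [← h2 v, mul_inv_cancel_right, mul_inv_cancel]
      intro a ha
      by_cases haZ : a ∈ Z
      · exact hexp a haZ
      · have hb : c⁻¹ * a ∈ Z := by
          have h1 := hcos a ha haZ
          have h2 := hcos c hcP huv
          have := Z.mul_mem (Z.inv_mem h2) h1
          rwa [show (z⁻¹ * c)⁻¹ * (z⁻¹ * a) = c⁻¹ * a by group] at this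
        calc a * a = c * (c⁻¹ * a) * (c * (c⁻¹ * a)) := by simp
          _ = c * c * ((c⁻¹ * a) * (c⁻¹ * a)) := by
            rw [mul_assoc c, ← mul_assoc (c⁻¹ * a) c, hcomm _ hb c (T.le hcP)]; simp [mul_assoc]
          _ = _ := by rw [hexp _ hb, hcc, mul_one]
    -- counting
    classical
    letI := Fintype.ofFinite Y
    have h24 : ∀ c ∈ P, c ≠ 1 → Nat.card {y : Y // y ∈ Q ∧ y * y = 1} + Nat.card {y : Y // y ∈ Q ∧ y * y = c} = 24 := by
      intro c hc hc1
      haveI : (zpowers c).Normal := ⟨fun a ha y => by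
        rw [mem_center_iff.1 (hPc (zpowers_le.2 hc ha)) y, mul_inv_cancel_right]; exact ha⟩
      have hN : zpowers c ≤ P := zpowers_le.2 hc
      have hNc : Nat.card ↥(zpowers c) = 2 := by
        rw [Nat.card_zpowers]; exact orderOf_eq_prime (by rw [pow_two]; exact hPexp c hc) hc1
      set mk := QuotientGroup.mk' (zpowers c) with hmk
      haveI : (P.map mk).Normal := ‹P.Normal›.map _ (QuotientGroup.mk'_surjective _)
      haveI : (Q.map mk).Normal := hQn.map _ (QuotientGroup.mk'_surjective _)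
      obtain ⟨x₀, hx₀, hfx₀⟩ := T.faith
      have T' : Top (Y ⧸ zpowers c) (Q.map mk) (P.map mk) (f : Y ⧸ zpowers c) :=
        ⟨map_mono T.le, by rintro _ ⟨a, ha, rfl⟩; exact ⟨a * a, T.sq a ha, map_mul _ _ _⟩,
          ⟨mk x₀, ⟨x₀, hx₀, rfl⟩, fun ⟨a, ha, e⟩ => hfx₀ (by
            have := QuotientGroup.eq.1 (show ((a : Y) : Y ⧸ zpowers c) = ((f * x₀ * f⁻¹ * x₀⁻¹ : Y) : Y ⧸ zpowers c) by
              simpa [hmk] using e)
            simpa using P.mul_mem ha (hN this))⟩⟩
      have hP2 : Nat.card ↥(P.map mk) = 2 := by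
        have : Nat.card P = Nat.card ↥(P.map mk) * Nat.card ↥(zpowers c) := card_map_mk (zpowers c) hN
        rw [hP4, hNc] at this
        omega
      obtain ⟨y, hy, hyc⟩ : ∃ y ∈ Q, y * y ∉ zpowers c := by
        by_contra! h
        have := Nat.card_le_card_of_injective _ (inclusion_injective (hgen _ h))
        omega
      obtain ⟨-, h12, -⟩ := (E.quotient (zpowers c) (hN.trans T.le)).extra T' hP2 ⟨mk y, ⟨y, hy, rfl⟩, fun e => hyc (by
        rw [← map_mul] at e
        exact (QuotientGroup.eq_one_iff _).1 e)⟩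
      have hpre : Nat.card {y : Y // y ∈ Q ∧ y * y ∈ zpowers c} = 2 * 12 := by
        rw [← hNc, ← h12, ← Nat.card_prod]
        refine Nat.card_congr ((Equiv.subtypeEquivRight fun y => ?_).trans
          (QuotientGroup.preimageMkEquivSubgroupProdSet (zpowers c) {q | q ∈ Q.map mk ∧ q * q = 1}))
        show _ ↔ (y : Y ⧸ zpowers c) ∈ {q | q ∈ Q.map mk ∧ q * q = 1}
        refine ⟨fun h => ⟨⟨y, h.1, rfl⟩, (QuotientGroup.eq_one_iff _).2 h.2⟩, fun ⟨⟨a, ha, e⟩, h⟩ => ⟨?_, ?_⟩⟩
        · simpa using Q.mul_mem ha (T.le (hN (QuotientGroup.eq.1 (show (a : Y ⧸ zpowers c) = y from e))))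
        · exact (QuotientGroup.eq_one_iff _).1 h
      have hmem : ∀ a : Y, a ∈ zpowers c ↔ a = 1 ∨ a = c :=
        fun a => ⟨mem_of_card_two hNc (mem_zpowers c) hc1, fun h => by
          rcases h with e | e <;> rw [e] <;> [exact one_mem _; exact mem_zpowers c]⟩
      rw [show (24 : ℕ) = 2 * 12 from rfl, ← hpre]
      simp only [Nat.card_eq_fintype_card, Fintype.card_subtype, hmem]
      rw [← Finset.card_union_of_disjoint (Finset.disjoint_filter.2 fun a _ h h' => hc1 (h'.2.symm.trans h.2))]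
      congr 1
      ext a; simp [and_or_left]
    let F : Y → Finset Y := fun c => Finset.univ.filter fun y => y ∈ Q ∧ y * y = c
    let PF : Finset Y := Finset.univ.filter (· ∈ P)
    have hPF : PF.card = 4 := by
      rw [← hP4, Nat.card_eq_fintype_card, Fintype.card_subtype]
    have hF : ∀ c, Nat.card {y : Y // y ∈ Q ∧ y * y = c} = (F c).card := fun c => by
      rw [Nat.card_eq_fintype_card, Fintype.card_subtype]
    have hsum : ∑ c ∈ PF, (F c).card = 64 := by
      rw [show (64 : ℕ) = 16 * 4 from rfl, ← hQ, Nat.card_eq_fintype_card, Fintype.card_subtype,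
        Finset.card_eq_sum_card_fiberwise (s := Finset.univ.filter (· ∈ Q)) (t := PF) (f := fun y => y * y)
          fun y hy => by simpa [PF] using T.sq y (by simpa using hy)]
      refine Finset.sum_congr rfl fun c _ => ?_
      rw [Finset.filter_filter]
    simp only [hF] at h24
    have h1PF : (1 : Y) ∈ PF := by simp [PF]
    have hF1 : (F 1).card = 4 := by
      rw [← Finset.sum_erase_add _ _ h1PF, Finset.sum_congr rfl (g := fun _ => 24 - (F 1).card) fun c hc => by
        have := h24 c (by simpa [PF] using (Finset.mem_of_mem_erase hc)) (Finset.ne_of_mem_erase hc)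
        omega, Finset.sum_const, Finset.card_erase_of_mem h1PF, hPF, smul_eq_mul] at hsum
      obtain ⟨c, hc, hc1⟩ : ∃ c ∈ P, c ≠ 1 := ⟨z, hzP, fun e => hxZ (e ▸ Z.one_mem)⟩
      have := h24 c hc hc1
      omega
    -- fixed points of `g`
    let C : Finset Y := Finset.univ.filter fun y => y ∈ Q ∧ g * y = y * g
    have hCle : C.card ≤ 16 := by
      refine le_trans ?_ hgP
      rw [Nat.card_eq_fintype_card, Fintype.card_subtype]
      refine Finset.card_le_card fun y hy => ?_
      simp only [C, Finset.mem_filter, Finset.mem_univ, true_and] at hy ⊢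
      refine ⟨hy.1, mem_centralizer_singleton_iff.2 ?_⟩
      simp only [QuotientGroup.mk'_apply, ← QuotientGroup.mk_mul, hy.2]
    have h5 : ∀ c ∈ PF.erase 1, 5 ≤ ((F c).filter fun y => g * y = y * g).card := by
      intro c hc
      have hcP : c ∈ P := by simpa [PF] using Finset.mem_of_mem_erase hc
      have h20 : (F c).card = 20 := by
        have := h24 c hcP (Finset.ne_of_mem_erase hc); omega
      have hmod := fixed_modEq E.g3 {y | y ∈ Q ∧ y * y = c} fun y hy => ⟨hQn.conj_mem y hy.1 g, by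
        rw [show g * y * g⁻¹ * (g * y * g⁻¹) = g * (y * y) * g⁻¹ by group, hy.2,
          mem_center_iff.1 (hPc hcP) g, mul_inv_cancel_right]⟩
      rw [show Nat.card ({y | y ∈ Q ∧ y * y = c} : Set Y) = 20 from (hF c).trans h20] at hmod
      have hcount : Nat.card {y : Y // y ∈ ({y | y ∈ Q ∧ y * y = c} : Set Y) ∧ g * y = y * g} =
          ((F c).filter fun y => g * y = y * g).card := by
        rw [Nat.card_eq_fintype_card, Fintype.card_subtype]
        congr 1
        ext y; simp [F]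
      rw [hcount] at hmod
      obtain ⟨y₀, hy₀⟩ : ((F c).filter fun y => g * y = y * g).Nonempty := by
        rw [← Finset.card_pos]
        by_contra h
        rw [Nat.le_zero.1 (not_lt.1 h)] at hmod
        simp [Nat.ModEq] at hmod
      have h4 : 4 ≤ ((F c).filter fun y => g * y = y * g).card := by
        rw [← hPF]
        refine Finset.card_le_card_of_injOn (fun a => y₀ * a) (fun a ha => ?_) fun a _ b _ => mul_left_cancel
        simp only [PF, F, Finset.coe_filter, Finset.mem_filter, Finset.mem_univ, true_and, Set.mem_setOf_eq] at ha hy₀ ⊢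
        have hac := mem_center_iff.1 (hPc ha)
        refine ⟨⟨Q.mul_mem hy₀.1.1 (T.le ha), ?_⟩, ?_⟩
        · rw [mul_assoc y₀ a, ← mul_assoc a y₀ a, ← hac y₀, mul_assoc y₀ a a, hPexp a ha, mul_one]
          exact hy₀.1.2
        · rw [← mul_assoc, hy₀.2, mul_assoc, hac g, mul_assoc]
      by_contra hlt
      have : ((F c).filter fun y => g * y = y * g).card = 4 := by omega
      rw [this] at hmod
      simp [Nat.ModEq] at hmod
    have hF1g : 4 ≤ ((F 1).filter fun y => g * y = y * g).card := by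
      rw [← hPF]
      refine Finset.card_le_card fun a ha => ?_
      simp only [PF, F, Finset.mem_filter, Finset.mem_univ, true_and] at ha ⊢
      exact ⟨⟨T.le ha, hPexp a ha⟩, mem_center_iff.1 (hPc ha) g⟩
    have hCsum : C.card = ∑ c ∈ PF, ((F c).filter fun y => g * y = y * g).card := by
      rw [Finset.card_eq_sum_card_fiberwise (s := C) (t := PF) (f := fun y => y * y) fun y hy => by
        simp only [C, PF, Finset.coe_filter, Finset.mem_univ, true_and, Set.mem_setOf_eq] at hy ⊢
        exact T.sq y hy.1]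
      refine Finset.sum_congr rfl fun c _ => ?_
      congr 1
      ext y; simp [C, F]; tauto
    rw [hCsum, ← Finset.sum_erase_add _ _ h1PF] at hCle
    have := Finset.card_nsmul_le_sum _ _ _ h5
    rw [Finset.card_erase_of_mem h1PF, hPF, smul_eq_mul] at this
    omega

end Cfsg.Agent.SecFour
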