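import Cfsg.Agent.SecFour.Basic

/-!
The top layer `Q / Z`, and the exclusion of two layers of order sixteen.
-/

set_option autoImplicit false
set_option maxHeartbeats 400000

namespace Cfsg.Agent.SecFour

open Subgroup

variable {Y : Type*} [Group Y]

theorem card_map_mk [Finite Y] (Z : Subgroup Y) [Z.Normal] {K : Subgroup Y} (h : Z ≤ K) :
    Nat.card K = Nat.card ↥(K.map (QuotientGroup.mk' Z)) * Nat.card Z := by
  let π : ↥K →* ↥(K.map (QuotientGroup.mk' Z)) := (QuotientGroup.mk' Z).subgroupMap K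
  have hπ : Function.Surjective π := (QuotientGroup.mk' Z).subgroupMap_surjective K
  have hker : π.ker = Z.subgroupOf K := by
    ext x
    rw [MonoidHom.mem_ker, Subtype.ext_iff, mem_subgroupOf]
    exact QuotientGroup.eq_one_iff _
  rw [← π.ker.card_mul_index, index_ker, MonoidHom.range_eq_top.2 hπ, card_top, hker,
    Nat.card_congr (subgroupOfEquivOfLe h).toEquiv, mul_comm]

/-- The data of the top layer. -/
structure Top (Y : Type*) [Group Y] (Q Z : Subgroup Y) (f : Y) : Prop where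
  le : Z ≤ Q
  sq : ∀ x ∈ Q, x * x ∈ Z
  faith : ∃ x ∈ Q, f * x * f⁻¹ * x⁻¹ ∉ Z

theorem commutator_mem {Z Q : Subgroup Y} [Z.Normal] (hsq : ∀ x ∈ Q, x * x ∈ Z) {x y : Y}
    (hx : x ∈ Q) (hy : y ∈ Q) : x * y * x⁻¹ * y⁻¹ ∈ Z := by
  have h := Z.mul_mem (hsq (x * y) (Q.mul_mem hx hy))
    (Z.mul_mem (‹Z.Normal›.conj_mem _ (Z.inv_mem (hsq x hx)) y⁻¹) (Z.inv_mem (hsq y hy)))
  have e : x * y * (x * y) * (y⁻¹ * (x * x)⁻¹ * y⁻¹⁻¹ * (y * y)⁻¹) = x * y * x⁻¹ * y⁻¹ := by group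
  rwa [e] at h

variable [Finite Y] {Q : Subgroup Y} [hQn : Q.Normal] {f t g : Y}

theorem Ext.top_layer (E : Ext Y Q f t g) {Z : Subgroup Y} [Z.Normal] (T : Top Y Q Z f) :
    Nat.card Q = 16 * Nat.card Z ∧ (∀ x ∈ Q, f * x * f⁻¹ * x⁻¹ ∈ Z → x ∈ Z) ∧
      Nat.card ↥(Q ⊓ (centralizer {(t : Y ⧸ Z)}).comap (QuotientGroup.mk' Z)) = 4 * Nat.card Z ∧
      (∀ x ∈ Q ⊓ (centralizer {(t : Y ⧸ Z)}).comap (QuotientGroup.mk' Z),
        ∃ w ∈ Q, ∃ z ∈ Z, x = w⁻¹ * (t * w * t⁻¹) * z) ∧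
      Nat.card ↥(Q ⊓ (centralizer {(g : Y ⧸ Z)}).comap (QuotientGroup.mk' Z)) ≤ 4 * Nat.card Z ∧
      (∀ W : Subgroup Y, Z ≤ W → W ≤ Q → (∀ w ∈ W, f * w * f⁻¹ ∈ W) → W = Z ∨ W = Q) := by
  obtain ⟨x₀, hx₀, hfx₀⟩ := T.faith
  set mk := QuotientGroup.mk' Z with hmk
  haveI : (Q.map mk).Normal := hQn.map _ (QuotientGroup.mk'_surjective Z)
  have hexp : ∀ v ∈ Q.map mk, v * v = 1 := by
    rintro _ ⟨x, hx, rfl⟩
    rw [← map_mul]; exact (QuotientGroup.eq_one_iff _).2 (T.sq x hx)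
  have hQc : Q.map mk ≤ centralizer (Q.map mk : Set (Y ⧸ Z)) := by
    rintro _ ⟨x, hx, rfl⟩
    rw [mem_centralizer_iff]
    rintro _ ⟨y, hy, rfl⟩
    rw [← commutatorElement_eq_one_iff_mul_comm, commutatorElement_def, ← map_inv, ← map_inv, ← map_mul,
      ← map_mul, ← map_mul]
    exact (QuotientGroup.eq_one_iff _).2 (commutator_mem T.sq hy hx)
  have hnc : ¬ Q.map mk ≤ center (Y ⧸ Z) := by
    intro h
    refine hfx₀ ((QuotientGroup.eq_one_iff _).1 ?_)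
    have hc := mem_center_iff.1 (h ⟨x₀, hx₀, rfl⟩) (mk f)
    show mk (f * x₀ * f⁻¹ * x₀⁻¹) = 1
    rw [map_mul, map_mul, map_mul, map_inv, map_inv, hc]; group
  obtain ⟨hV, hf, ht, htw, hg, hinv⟩ := (E.quotient Z T.le).layer le_rfl hexp hQc hnc
  have hmem : ∀ y : Y, mk y ∈ Q.map mk → y ∈ Q := by
    rintro y ⟨x, hx, h⟩
    have := QuotientGroup.eq.1 (show (x : Y ⧸ Z) = y from h)
    simpa using Q.mul_mem hx (T.le this)
  have hmap : ∀ K : Subgroup (Y ⧸ Z), (Q ⊓ K.comap mk).map mk = Q.map mk ⊓ K := by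
    intro K
    refine le_antisymm ?_ ?_
    · rintro _ ⟨x, hx, rfl⟩; exact ⟨⟨x, hx.1, rfl⟩, hx.2⟩
    · rintro _ ⟨⟨x, hx, rfl⟩, h⟩; exact ⟨x, ⟨hx, h⟩, rfl⟩
  have hle : ∀ K : Subgroup (Y ⧸ Z), Z ≤ Q ⊓ K.comap mk := fun K z hz =>
    ⟨T.le hz, mem_comap.2 (by rw [hmk, QuotientGroup.mk'_apply, (QuotientGroup.eq_one_iff z).2 hz]; exact K.one_mem)⟩
  refine ⟨?_, fun x hx hfx => ?_, ?_, fun x hx => ?_, ?_, fun W hZW hWQ hWf => ?_⟩
  · rw [card_map_mk Z T.le, hV]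
  · refine (QuotientGroup.eq_one_iff x).1 (hf _ ⟨x, hx, rfl⟩ ?_)
    have := (QuotientGroup.eq_one_iff _).2 hfx
    rwa [QuotientGroup.mk_mul, mul_eq_one_iff_eq_inv, QuotientGroup.mk_inv, inv_inv, QuotientGroup.mk_mul,
      QuotientGroup.mk_mul, QuotientGroup.mk_inv, mul_inv_eq_iff_eq_mul] at this
  · rw [card_map_mk Z (hle _), hmap, ht]
  · obtain ⟨hxQ, hxc⟩ := hx
    obtain ⟨v, ⟨w, hw, rfl⟩, hxv⟩ := htw _ ⟨x, hxQ, rfl⟩ (mem_centralizer_singleton_iff.1 hxc).symm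
    refine ⟨w, hw, (w⁻¹ * (t * w * t⁻¹))⁻¹ * x, ?_, by group⟩
    rw [← QuotientGroup.eq]
    exact (show mk (w⁻¹ * (t * w * t⁻¹)) = mk x by rw [hxv]; simp [map_mul, map_inv, hmk])
  · rw [card_map_mk Z (hle _), hmap]
    exact Nat.mul_le_mul_right _ hg
  · rcases hinv (W.map mk) (map_mono hWQ) (by
      rintro _ ⟨w, hw, rfl⟩
      exact ⟨f * w * f⁻¹, hWf w hw, by simp [map_mul, map_inv, hmk]⟩) with h | h
    · left
      refine le_antisymm (fun w hw => (QuotientGroup.eq_one_iff w).1 (mem_bot.1 (h ▸ ⟨w, hw, rfl⟩))) hZW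
    · right
      refine eq_of_le_of_card_ge hWQ ?_
      rw [card_map_mk Z hZW, card_map_mk Z T.le, h]

/-- A minimal layer of order sixteen below the top layer is impossible. -/
theorem Ext.no_two_layers (E : Ext Y Q f t g) {Z : Subgroup Y} [Z.Normal] (T : Top Y Q Z f)
    (hexp : ∀ z ∈ Z, z * z = 1) (hQc : Q ≤ centralizer (Z : Set Y)) (hnc : ¬ Z ≤ center Y) : False := by
  obtain ⟨hZ, hfZ, htZ, -, -, -⟩ := E.layer T.le hexp hQc hnc
  obtain ⟨-, hfQ, htQ, htw, -, -⟩ := E.top_layer T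
  -- the square of `t` is trivial
  have hf : ∀ x ∈ Q, f * x = x * f → x = 1 := fun x hx h => hfZ x (hfQ x hx (by
    rw [h, mul_inv_cancel_right, mul_inv_cancel]; exact Z.one_mem)) h
  have ht2 : t * t = 1 := by
    refine hf _ E.t2 ?_
    have h1 : t * f = f⁻¹ * t := mul_inv_eq_iff_eq_mul.1 E.tf
    have h2 : t * f⁻¹ = f * t := by
      have := congrArg (·⁻¹) E.tf
      simp only [mul_inv_rev, inv_inv, ← mul_assoc] at this
      exact mul_inv_eq_iff_eq_mul.1 this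
    rw [mul_assoc t t f, h1, ← mul_assoc t f⁻¹ t, h2, mul_assoc]
  have htinv : t⁻¹ = t := inv_eq_of_mul_eq_one_right ht2
  set P := Q ⊓ (centralizer {(t : Y ⧸ Z)}).comap (QuotientGroup.mk' Z) with hP
  set N := Z ⊓ centralizer {t} with hN
  have hPQ : P ≤ Q := inf_le_left
  have hNZ : N ≤ Z := inf_le_left
  have hZc : ∀ x ∈ Q, ∀ z ∈ Z, z * x = x * z := fun x hx z hz => mem_centralizer_iff.1 (hQc hx) z hz
  have hZP : Z ≤ P := fun z hz => ⟨T.le hz, mem_comap.2 (by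
    rw [QuotientGroup.mk'_apply, (QuotientGroup.eq_one_iff z).2 hz]; exact one_mem _)⟩
  have hPt : ∀ p ∈ P, p⁻¹ * (t * p * t⁻¹) ∈ Z := by
    intro p hp
    rw [← QuotientGroup.eq_one_iff]
    simp only [QuotientGroup.mk_mul, QuotientGroup.mk_inv]
    rw [inv_mul_eq_one, eq_mul_inv_iff_mul_eq]
    exact mem_centralizer_singleton_iff.1 hp.2
  have hsq : ∀ p ∈ P, p * p ∈ N := by
    intro p hp
    refine ⟨T.sq p (hPQ hp), mem_centralizer_singleton_iff.2 ?_⟩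
    have h : t * (p * p) * t⁻¹ = p * p := by
      have e : t * (p * p) * t⁻¹ = (p * (p⁻¹ * (t * p * t⁻¹))) * (p * (p⁻¹ * (t * p * t⁻¹))) := by group
      have hz := hPt p hp
      generalize p⁻¹ * (t * p * t⁻¹) = z at e hz
      rw [e, mul_assoc p z, ← mul_assoc z p z, hZc p (hPQ hp) z hz, mul_assoc p z z, hexp z hz, mul_one]
    exact (mul_inv_eq_iff_eq_mul.1 h).symm
  have hd : ∀ p ∈ P, p⁻¹ * (t * p * t⁻¹) ∈ N := by
    intro p hp
    obtain ⟨w, hw, z, hz, rfl⟩ := htw p hp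
    set q₀ := w⁻¹ * (t * w * t⁻¹) with hq₀
    have hzc : t * z * t⁻¹ ∈ Z := ‹Z.Normal›.conj_mem z hz t
    have hq₀P : q₀ ∈ P := by
      have hzP : z ∈ P := hZP hz
      have := P.mul_mem hp (P.inv_mem hzP)
      rwa [mul_inv_cancel_right] at this
    have h1 : t * q₀ * t⁻¹ = q₀⁻¹ := by
      rw [hq₀]
      calc t * (w⁻¹ * (t * w * t⁻¹)) * t⁻¹ = (t * w * t⁻¹)⁻¹ * (t * t) * w * (t * t)⁻¹ := by group
        _ = _ := by rw [ht2]; group
    have h2 : (q₀ * z)⁻¹ * (t * (q₀ * z) * t⁻¹) = (q₀ * q₀)⁻¹ * (z⁻¹ * (t * z * t⁻¹)) := by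
      have hc : (q₀ * q₀)⁻¹ * z⁻¹ = z⁻¹ * (q₀ * q₀)⁻¹ :=
        (hZc _ (Q.inv_mem (Q.mul_mem (hPQ hq₀P) (hPQ hq₀P))) _ (Z.inv_mem hz)).symm
      calc (q₀ * z)⁻¹ * (t * (q₀ * z) * t⁻¹)
          = z⁻¹ * q₀⁻¹ * (t * q₀ * t⁻¹) * (t * z * t⁻¹) := by group
        _ = z⁻¹ * (q₀ * q₀)⁻¹ * (t * z * t⁻¹) := by rw [h1]; group
        _ = _ := by rw [← hc, mul_assoc]
    rw [h2]
    refine N.mul_mem (N.inv_mem (hsq q₀ hq₀P)) ⟨Z.mul_mem (Z.inv_mem hz) hzc, mem_centralizer_singleton_iff.2 ?_⟩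
    have h3 : t * (z⁻¹ * (t * z * t⁻¹)) * t⁻¹ = z⁻¹ * (t * z * t⁻¹) := by
      calc t * (z⁻¹ * (t * z * t⁻¹)) * t⁻¹ = (t * z * t⁻¹)⁻¹ * ((t * t) * z * (t * t)⁻¹) := by group
        _ = (t * z * t⁻¹) * z := by rw [ht2, inv_eq_of_mul_eq_one_right (hexp _ hzc)]; group
        _ = _ := by rw [inv_eq_of_mul_eq_one_right (hexp z hz)]; exact hZc _ (T.le hz) _ hzc
    exact (mul_inv_eq_iff_eq_mul.1 h3).symm
  have hconjP : ∀ p ∈ P, t * p * t⁻¹ ∈ P := by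
    intro p hp
    have := P.mul_mem hp (show p⁻¹ * (t * p * t⁻¹) ∈ P from
      hZP (hPt p hp))
    rwa [mul_inv_cancel_left] at this
  let K : Subgroup Y :=
    { carrier := {y | ∃ p ∈ P, y = p ∨ y = p * t}
      one_mem' := ⟨1, P.one_mem, Or.inl rfl⟩
      mul_mem' := by
        rintro a b ⟨p, hp, ea | ea⟩ ⟨r, hr, eb | eb⟩ <;> rw [ea, eb]
        · exact ⟨_, P.mul_mem hp hr, Or.inl rfl⟩
        · exact ⟨_, P.mul_mem hp hr, Or.inr (mul_assoc _ _ _).symm⟩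
        · exact ⟨_, P.mul_mem hp (hconjP r hr), Or.inr (by group)⟩
        · refine ⟨_, P.mul_mem hp (hconjP r hr), Or.inl ?_⟩
          calc p * t * (r * t) = p * (t * r * t⁻¹) * (t * t) := by group
            _ = _ := by rw [ht2, mul_one]
      inv_mem' := by
        rintro a ⟨p, hp, ea | ea⟩ <;> rw [ea]
        · exact ⟨_, P.inv_mem hp, Or.inl rfl⟩
        · refine ⟨_, hconjP _ (P.inv_mem hp), Or.inr ?_⟩
          rw [mul_inv_rev, inv_mul_cancel_right]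
          conv_lhs => rw [htinv] }
  have hPK : P ≤ K := fun p hp => ⟨p, hp, Or.inl rfl⟩
  have htK : t ∈ K := ⟨1, P.one_mem, Or.inr (one_mul t).symm⟩
  have hNP : N ≤ P := hNZ.trans hZP
  have hNt : ∀ n ∈ N, t * n = n * t := fun n hn => (mem_centralizer_singleton_iff.1 hn.2).symm
  have hbound := rank_bound E.rank K N (hNP.trans hPK) (by
    rintro k ⟨p, hp, e | e⟩ n hn <;> rw [e]
    · rw [← hZc _ (hPQ hp) n (hNZ hn), mul_inv_cancel_right]; exact hn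
    · rw [show p * t * n * (p * t)⁻¹ = p * (t * n * t⁻¹) * p⁻¹ by group, hNt n hn, mul_inv_cancel_right,
        ← hZc _ (hPQ hp) n (hNZ hn), mul_inv_cancel_right]
      exact hn) (by
    rintro k ⟨p, hp, e | e⟩ <;> rw [e]
    · exact hsq p hp
    · rw [show p * t * (p * t) = p * p * (p⁻¹ * (t * p * t⁻¹)) * (t * t) by group, ht2, mul_one]
      exact N.mul_mem (hsq p hp) (hd p hp))
  have hlt : Nat.card P < Nat.card K := by
    refine lt_of_le_of_ne (Nat.card_le_card_of_injective _ (inclusion_injective hPK)) fun e => E.tQ ?_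
    exact hPQ ((eq_of_le_of_card_ge hPK e.ge).symm ▸ htK)
  obtain ⟨m, hm⟩ := card_dvd_of_le hPK
  rw [hN, htZ] at hbound
  rw [hP, htQ, hZ] at hlt hm
  rw [hm] at hbound hlt
  have : 2 ≤ m := by by_contra h; interval_cases m <;> omega
  omega

end Cfsg.Agent.SecFour
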